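import Groth.Agent.PropsBasic.LociBaseChange.Scheme
import Mathlib.RingTheory.Flat.Localization
import Mathlib.Algebra.Category.Ring.Constructions

/-!
The local rings of a fibre product are flat over the tensor product of the local rings.
-/

universe u

open CategoryTheory CategoryTheory.Limits AlgebraicGeometry TensorProduct

set_option linter.style.haveILetI false

namespace Groth.DerivedCoh.RelAmp

section Algebra

variable {R C B : Type u} [CommRing R] [CommRing C] [CommRing B]

/-- A ring between a ring and a localisation of it, made up of fractions, localises to the same ring. -/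
theorem flat_of_fractions (i : R →+* C) (π : C →+* B) (M : Submonoid R)
    (hB : letI := (π.comp i).toAlgebra; IsLocalization M B)
    (hC : ∀ c : C, ∃ r : R, ∃ s ∈ M, c * i s = i r) : π.Flat := by
  algebraize [i, π, π.comp i]
  suffices IsLocalization (M.map i) B from IsLocalization.flat B (M.map i)
  refine (isLocalization_iff _ _).2 ⟨?_, ?_, ?_⟩
  · rintro ⟨-, s, hs, rfl⟩
    exact IsLocalization.map_units B (⟨s, hs⟩ : M)
  · intro z
    obtain ⟨⟨r, s⟩, h⟩ := IsLocalization.surj M z
    exact ⟨(i r, ⟨i s, s, s.2, rfl⟩), h⟩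
  · intro c d hcd
    obtain ⟨r, s, hs, hr⟩ := hC (c - d)
    have h0 : algebraMap R B r = algebraMap R B 0 := by
      have : π (i r) = 0 := by
        rw [← hr, map_mul, map_sub, show π c = π d from hcd, sub_self, zero_mul]
      rw [map_zero]
      exact this
    obtain ⟨t, ht⟩ := IsLocalization.exists_of_eq (M := M) h0
    refine ⟨⟨i (t * s), _, M.mul_mem t.2 hs, rfl⟩, sub_eq_zero.1 ?_⟩
    have h1 : i t * ((c - d) * i s) = 0 := by rw [hr, ← map_mul, ht, mul_zero, map_zero]
    change i (t * s) * c - i (t * s) * d = 0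
    rw [map_mul, ← h1]
    ring

end Algebra

variable {X Y X' Y' : Scheme.{u}} {f : X ⟶ Y} {g : X' ⟶ X} {h : Y' ⟶ Y} {f' : X' ⟶ Y'}

lemma germ_appLE_stalkMap (f : X ⟶ Y) {V : Y.Opens} {U : X.Opens} (e : U ≤ f ⁻¹ᵁ V) (x : X) (hx : x ∈ U) :
    f.appLE V U e ≫ X.presheaf.germ U x hx = Y.presheaf.germ V (f x) (e hx) ≫ f.stalkMap x := by
  rw [Scheme.Hom.appLE, Category.assoc, TopCat.Presheaf.germ_res, Scheme.Hom.germ_stalkMap]

/-- the comparison map of the local ring of the base -/
noncomputable abbrev baseStalkHom (H : IsPullback g f' f h) (x' : X') :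
    Y.presheaf.stalk (h (f' x')) ⟶ X.presheaf.stalk (g x') :=
  (Y.presheaf.stalkCongr (.of_eq (by rw [← Scheme.Hom.comp_apply, ← H.w, Scheme.Hom.comp_apply]))).hom ≫
    f.stalkMap (g x')

lemma baseStalkHom_comm (H : IsPullback g f' f h) (x' : X') :
    baseStalkHom H x' ≫ g.stalkMap x' = h.stalkMap (f' x') ≫ f'.stalkMap x' := by
  rw [Category.assoc, ← Scheme.Hom.stalkMap_comp, ← Scheme.Hom.stalkMap_comp,
    Scheme.Hom.stalkMap_congr_hom (f' ≫ h) (g ≫ f) H.w.symm x']
  rfl

/-- The local ring at a point of a fibre product is flat over the tensor product of the local rings. -/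
theorem flat_stalk_tensor (H : IsPullback g f' f h) (x' : X') :
    letI := (h.stalkMap (f' x')).hom.toAlgebra
    letI := (baseStalkHom H x').hom.toAlgebra
    ∀ π : (Y'.presheaf.stalk (f' x') ⊗[Y.presheaf.stalk (h (f' x'))] X.presheaf.stalk (g x')) →+*
        X'.presheaf.stalk x',
      π.comp Algebra.TensorProduct.includeLeftRingHom = (f'.stalkMap x').hom →
      π.comp (Algebra.TensorProduct.includeRight (R := Y.presheaf.stalk (h (f' x')))
        (A := Y'.presheaf.stalk (f' x')) (B := X.presheaf.stalk (g x'))).toRingHom = (g.stalkMap x').hom →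
      π.Flat := by
  letI := (h.stalkMap (f' x')).hom.toAlgebra
  letI := (baseStalkHom H x').hom.toAlgebra
  intro π hl hr
  obtain ⟨V, V', U, W, eU, eV, eWU, eWV, hV, hV', hU, hW, hx, hpo⟩ := Groth.PropsBasic.Loci.exists_chart H x'
  let S := Y'.presheaf.stalk (f' x') ⊗[Y.presheaf.stalk (h (f' x'))] X.presheaf.stalk (g x')
  let iL : Y'.presheaf.stalk (f' x') ⟶ CommRingCat.of S :=
    CommRingCat.ofHom (Algebra.TensorProduct.includeLeftRingHom (R := Y.presheaf.stalk (h (f' x')))
      (A := Y'.presheaf.stalk (f' x')) (B := X.presheaf.stalk (g x')))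
  let iR : X.presheaf.stalk (g x') ⟶ CommRingCat.of S :=
    CommRingCat.ofHom (Algebra.TensorProduct.includeRight (R := Y.presheaf.stalk (h (f' x')))
      (A := Y'.presheaf.stalk (f' x')) (B := X.presheaf.stalk (g x'))).toRingHom
  have w : f.appLE V U eU ≫ X.presheaf.germ U (g x') (eWU hx) ≫ iR =
      h.appLE V V' eV ≫ Y'.presheaf.germ V' (f' x') (eWV hx) ≫ iL := by
    rw [← Category.assoc, germ_appLE_stalkMap, ← Category.assoc (h.appLE V V' eV), germ_appLE_stalkMap]
    have hb : (h.stalkMap (f' x') ≫ iL) = baseStalkHom H x' ≫ iR :=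
      (CommRingCat.isPushout_tensorProduct (Y.presheaf.stalk (h (f' x'))) (Y'.presheaf.stalk (f' x'))
        (X.presheaf.stalk (g x'))).w
    rw [Category.assoc, Category.assoc, hb, Category.assoc, TopCat.Presheaf.stalkCongr_hom,
      TopCat.Presheaf.germ_stalkSpecializes_assoc]
  let i : Γ(X', W) ⟶ CommRingCat.of S := hpo.desc _ _ w
  have hi : i ≫ CommRingCat.ofHom π = X'.presheaf.germ W x' hx := by
    refine hpo.hom_ext ?_ ?_
    · rw [hpo.inl_desc_assoc, Category.assoc, show iR ≫ CommRingCat.ofHom π = g.stalkMap x' from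
        CommRingCat.hom_ext hr, germ_appLE_stalkMap]
    · rw [hpo.inr_desc_assoc, Category.assoc, show iL ≫ CommRingCat.ofHom π = f'.stalkMap x' from
        CommRingCat.hom_ext hl, germ_appLE_stalkMap]
  let q := (hW.primeIdealOf ⟨x', hx⟩).asIdeal
  have hunit : ∀ r : Γ(X', W), IsUnit (π (i.hom r)) → r ∈ q.primeCompl := fun r hr => by
    letI : Algebra Γ(X', W) (X'.presheaf.stalk x') := (X'.presheaf.germ W x' hx).hom.toAlgebra
    haveI : IsLocalization.AtPrime (X'.presheaf.stalk x') q := hW.isLocalization_stalk ⟨x', hx⟩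
    refine (IsLocalization.AtPrime.isUnit_to_map_iff (X'.presheaf.stalk x') q r).1 ?_
    have := congr($(hi).hom r)
    exact this ▸ hr
  have hLf : ∀ a : Y'.presheaf.stalk (f' x'), ∃ r : Γ(X', W), ∃ s ∈ q.primeCompl,
      iL.hom a * i.hom s = i.hom r := fun a => by
    letI : Algebra Γ(Y', V') (Y'.presheaf.stalk (f' x')) :=
      (Y'.presheaf.germ V' (f' x') (eWV hx)).hom.toAlgebra
    let p := (hV'.primeIdealOf ⟨f' x', eWV hx⟩).asIdeal
    haveI : IsLocalization.AtPrime (Y'.presheaf.stalk (f' x')) p := hV'.isLocalization_stalk ⟨f' x', eWV hx⟩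
    obtain ⟨⟨r, s⟩, he⟩ := IsLocalization.surj p.primeCompl a
    have hcomp : ∀ z, i.hom ((f'.appLE V' W eWV).hom z) = iL.hom (algebraMap _ (Y'.presheaf.stalk (f' x')) z) :=
      fun z => congr($(hpo.inr_desc _ _ w).hom z)
    refine ⟨(f'.appLE V' W eWV).hom r, (f'.appLE V' W eWV).hom s, hunit _ ?_, ?_⟩
    · rw [hcomp]
      exact ((IsLocalization.map_units (Y'.presheaf.stalk (f' x')) s).map iL.hom).map π
    · rw [hcomp, hcomp, ← map_mul, he]
  have hRf : ∀ b : X.presheaf.stalk (g x'), ∃ r : Γ(X', W), ∃ s ∈ q.primeCompl,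
      iR.hom b * i.hom s = i.hom r := fun b => by
    letI : Algebra Γ(X, U) (X.presheaf.stalk (g x')) :=
      (X.presheaf.germ U (g x') (eWU hx)).hom.toAlgebra
    let p := (hU.primeIdealOf ⟨g x', eWU hx⟩).asIdeal
    haveI : IsLocalization.AtPrime (X.presheaf.stalk (g x')) p := hU.isLocalization_stalk ⟨g x', eWU hx⟩
    obtain ⟨⟨r, s⟩, he⟩ := IsLocalization.surj p.primeCompl b
    have hcomp : ∀ z, i.hom ((g.appLE U W eWU).hom z) = iR.hom (algebraMap _ (X.presheaf.stalk (g x')) z) :=
      fun z => congr($(hpo.inl_desc _ _ w).hom z)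
    refine ⟨(g.appLE U W eWU).hom r, (g.appLE U W eWU).hom s, hunit _ ?_, ?_⟩
    · rw [hcomp]
      exact ((IsLocalization.map_units (X.presheaf.stalk (g x')) s).map iR.hom).map π
    · rw [hcomp, hcomp, ← map_mul, he]
  refine flat_of_fractions i.hom π q.primeCompl ?_ fun c => ?_
  · have : π.comp i.hom = (X'.presheaf.germ W x' hx).hom := congrArg CommRingCat.Hom.hom hi
    rw [this]
    exact hW.isLocalization_stalk ⟨x', hx⟩
  · refine TensorProduct.induction_on (R := Y.presheaf.stalk (h (f' x')))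
      (motive := fun c : S => ∃ r, ∃ s ∈ q.primeCompl, c * i.hom s = i.hom r) c ?_ ?_ ?_
    · exact ⟨0, 1, one_mem _, by rw [zero_mul, map_zero]⟩
    · intro a b
      obtain ⟨r, s, hs, e⟩ := hLf a
      obtain ⟨r', s', hs', e'⟩ := hRf b
      refine ⟨r * r', s * s', mul_mem hs hs', ?_⟩
      have hab : (a ⊗ₜ[Y.presheaf.stalk (h (f' x'))] b : S) = iL.hom a * iR.hom b := by
        change _ = (a ⊗ₜ 1 : S) * (1 ⊗ₜ b)
        rw [Algebra.TensorProduct.tmul_mul_tmul, mul_one, one_mul]
      rw [hab, map_mul, map_mul, ← e, ← e']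
      ring
    · rintro c d ⟨r, s, hs, e⟩ ⟨r', s', hs', e'⟩
      refine ⟨r * s' + r' * s, s * s', mul_mem hs hs', ?_⟩
      rw [map_add, map_mul, map_mul, map_mul, ← e, ← e']
      ring

end Groth.DerivedCoh.RelAmp
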