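import Groth.Agent.DerivedCoh.RelAmp.Basic
import Groth.Agent.DerivedCoh.KFlat.LTensorGen
import Groth.Agent.DerivedCoh.KFlat.StalkCriterion
import Groth.Agent.DerivedCoh.KFlat.PullbackKFlat
import Groth.Agent.DAlg.TorAmpTot
import Groth.Agent.DAlg.ResTot
import Mathlib.CategoryTheory.Functor.Derived.PointwiseLeftDerived

/-!
Tor amplitude relative to a composite of derived tensor products with inverse images.
-/

universe u

open CategoryTheory CategoryTheory.Limits AlgebraicGeometry HomologicalComplex MonoidalCategory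

attribute [local instance] HasDerivedCategory.standard
set_option linter.style.haveILetI false

namespace Groth.DerivedCoh.RelAmp

open KFlat (tot totL stk pullCx IsKFlat)
open Groth.DAlg (extCx)

variable {X Y Z : Scheme.{u}}

local notation "up" => ComplexShape.up ℤ

section Algebra

open Groth.DAlg Groth.DAlg.KFlatMod

variable {R O A B : Type u} [CommRing R] [CommRing O] [CommRing A] [CommRing B]

/-- the braiding of total tensor products -/
noncomputable def brT (L P : DRing.Cx R) :
    tot (KFlatMod.T R) L P ≅ tot (KFlatMod.T R) P L :=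
  ((HomologicalComplex₂.totalFunctor (ModuleCat.{u} R) up up up).mapIso (biFlipIso L P)).symm ≪≫
    mapBifunctorFlipIso P L (KFlatMod.T R) up

/-- tensor product of a complex of finite tor amplitude over `A` with an extended complex of finite tor amplitude
over `O` -/
theorem torAmp_tot_ext (φ : A →+* B) (ψ : O →+* A) (L : DRing.Cx B) {a b c d : ℤ}
    (hL : DRing.HasTorAmplitudeIn A a b (DRing.toD ((DRing.restrictCx φ).obj L)))
    (W : DRing.Cx A) (hW : KFlatMod.IsKFlatCx A W)
    (hW' : DRing.HasTorAmplitudeIn O c d (DRing.toD ((DRing.restrictCx ψ).obj W))) :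
    DRing.HasTorAmplitudeIn O (a + c) (b + d)
      (DRing.toD ((DRing.restrictCx ψ).obj
        ((DRing.restrictCx φ).obj (tot (KFlatMod.T B) L (extCx φ W))))) := by
  haveI : DRing.HasLTensorCx A W := by
    haveI := (DRing.tensorCxQ A W).hasPointwiseLeftDerivedFunctor_of_inverts
      (W := HomologicalComplex.quasiIso (ModuleCat.{u} A) up) (fun X Y f hf => by
        haveI : QuasiIso f := (HomologicalComplex.mem_quasiIso_iff f).1 hf
        exact (DerivedCategory.isIso_Q_map_iff_quasiIso _ _).2 ((isKFlatCx_iff.1 hW).quasiIso_totL f))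
    exact Functor.hasLeftDerivedFunctor_of_hasPointwiseLeftDerivedFunctor _ _
  let M := (DRing.restrictCx φ).obj L
  let π := (resAug A).app M
  haveI : QuasiIso π := resAug_quasiIso M
  have hQ : IsIso (DerivedCategory.Q.map ((totL (KFlatMod.T A) W).map π)) :=
    (DerivedCategory.isIso_Q_map_iff_quasiIso _ _).2 ((isKFlatCx_iff.1 hW).quasiIso_totL π)
  let e : (DRing.LTensorCx A W).obj (DRing.toD M) ≅
      DRing.toD ((DRing.restrictCx φ).obj (tot (KFlatMod.T B) L (extCx φ W))) :=
    (DRing.LTensorCx A W).mapIso (asIso (DerivedCategory.Q.map π)).symm ≪≫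
      lTensorCxIso W _ (res_isKFlat M) ≪≫
      @asIso _ _ _ _ (DerivedCategory.Q.map ((totL (KFlatMod.T A) W).map π)) hQ ≪≫
      DerivedCategory.Q.mapIso (resTotIso φ L W).symm
  exact TorAmp.of_iso (torAmp_res_lTensorCx ψ _ a b c d hL W hW')
    ((DRing.restrictD ψ).mapIso e ≪≫ resQIso ψ _)

end Algebra

/-- K-flat complexes of `O_X`-modules are K-flat for the flipped bifunctor -/
theorem isKFlat_flip_of_isKFlat {C : CochainComplex X.Modules ℤ} (h : IsKFlat (KFlat.T X) C) :
    IsKFlat (KFlat.T X).flip C := by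
  rw [KFlat.isKFlat_flip_iff]
  intro M hM i
  rw [exactAt_iff, (KFlat.stk_jointly (X := X)).exact_iff]
  intro x
  have hC := DAlg.KFlatMod.isKFlatCx_iff.1
    ((KFlat.isKFlat_iff_stalk C).1 ((KFlat.isKFlat_iff C).2 h) x)
  have hMx : (((stk x).mapHomologicalComplex up).obj M).Acyclic := fun j => (hM j).map (stk x)
  exact (DAlg.KFlatMod.acyclic_tot_left hC hMx i).of_iso
    (KFlat.stkTotIso x C M).symm

/-- the stalks of the inverse image of a complex -/
noncomputable def pullCxStkIso (f : X ⟶ Y) (x : X) (P : CochainComplex Y.Modules ℤ) :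
    ((stk x).mapHomologicalComplex up).obj ((pullCx f).obj P) ≅
      extCx (f.stalkMap x).hom (((stk (f x)).mapHomologicalComplex up).obj P) :=
  (Functor.mapHomologicalComplexCompIso (KFlat.pullStkIso f x) up).app P ≪≫
    (Functor.mapHomologicalComplexCompIso
      (Iso.refl (stk (f x) ⋙ ModuleCat.extendScalars (f.stalkMap x).hom)) up).symm.app P

/-- relative tor amplitude of `f^*P ⊗ F`, for K-flat `P` -/
theorem hasTorAmplitude_tot (f : X ⟶ Y) (g : Y ⟶ Z) (F : CochainComplex X.Modules ℤ) (a b : ℤ)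
    (hF : DerSch.HasTorAmplitude f a b F) (P : CochainComplex Y.Modules ℤ)
    (hP : IsKFlat (KFlat.T Y) P) (c d : ℤ) (hP' : DerSch.HasTorAmplitude g c d P) :
    DerSch.HasTorAmplitude (f ≫ g) (a + c) (b + d) (tot (KFlat.T X) ((pullCx f).obj P) F) := by
  intro x
  refine StalkAmp.torAmp_of_iso (DerivedCategory.Q.mapIso ?_)
    (torAmp_tot_ext (f.stalkMap x).hom (g.stalkMap (f x)).hom
      (((stk x).mapHomologicalComplex up).obj F) (hF x) (((stk (f x)).mapHomologicalComplex up).obj P)
      ((KFlat.isKFlat_iff_stalk P).1 ((KFlat.isKFlat_iff P).2 hP) (f x))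
      (StalkAmp.torAmp_of_iso (DerivedCategory.Q.mapIso
        ((Functor.mapHomologicalComplexCompIso (Iso.refl (stk (f x) ⋙
          ModuleCat.restrictScalars (g.stalkMap (f x)).hom)) up).symm.app P)) (hP' (f x))))
  refine (DRing.restrictCx _).mapIso ((DRing.restrictCx _).mapIso
    (brT _ _ ≪≫ (tensorRight _).mapIso (pullCxStkIso f x P).symm ≪≫
      (KFlat.stkTotIso x ((pullCx f).obj P) F).symm) ≪≫
    (Functor.mapHomologicalComplexCompIso (Iso.refl (stk x ⋙
      ModuleCat.restrictScalars (f.stalkMap x).hom)) up).app _) ≪≫ (stalkCompIso f g x _).symm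

/-- a resolution by a K-flat complex keeps the relative tor amplitude -/
theorem hasTorAmplitude_res (g : Y ⟶ Z) {c d : ℤ} {G : CochainComplex Y.Modules ℤ}
    (hG : DerSch.HasTorAmplitude g c d G) :
    DerSch.HasTorAmplitude g c d ((KFlat.flatResolution Y).obj G) := fun y =>
  haveI := KFlat.flatResolution_quasiIso G
  hasTorAmplitudeAt_of_iso g y (asIso (DerivedCategory.Q.map ((KFlat.flatResolutionAug Y).app G))).symm (hG y)

/-- `Lf^*` through the K-flat resolution -/
noncomputable def lpullResIso (f : X ⟶ Y) [DCoh.HasLpull f] (G : CochainComplex Y.Modules ℤ) :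
    (DCoh.Lpull f).obj (DCoh.toD Y G) ≅
      DCoh.toD X ((pullCx f).obj ((KFlat.flatResolution Y).obj G)) :=
  haveI := KFlat.flatResolution_quasiIso G
  (DCoh.Lpull f).mapIso (asIso (DerivedCategory.Q.map ((KFlat.flatResolutionAug Y).app G))).symm ≪≫
    KFlat.lpullQIso f _ (KFlat.flatResolution_isKFlat G)

/-- relative tor amplitude of `Lf^*G ⊗^L F` -/
theorem hasTorAmplitudeD_ltensor (f : X ⟶ Y) (g : Y ⟶ Z) (F : CochainComplex X.Modules ℤ) (a b : ℤ)
    (hF : DerSch.HasTorAmplitude f a b F) (G : CochainComplex Y.Modules ℤ) (c d : ℤ)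
    (hG : DerSch.HasTorAmplitude g c d G) [DCoh.HasLpull f] [DCoh.HasLTensorCx F] :
    DerSch.HasTorAmplitudeD (f ≫ g) (a + c) (b + d)
      ((DCoh.LTensorCx F).obj ((DCoh.Lpull f).obj (DCoh.toD Y G))) := by
  have hP := KFlat.flatResolution_isKFlat G
  have := KFlat.isIso_ltcxCounit_app F _ (isKFlat_flip_of_isKFlat (KFlat.isKFlat_pullCx f _ hP))
  exact hasTorAmplitudeD_of_rep (f ≫ g) _
    ((DCoh.LTensorCx F).mapIso (lpullResIso f G) ≪≫ asIso ((KFlat.ltcxCounit F).app _)).symm
    (hasTorAmplitude_tot f g F a b hF _ hP c d (hasTorAmplitude_res g hG))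

end Groth.DerivedCoh.RelAmp
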