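import Groth.Agent.DerivedCoh.RelAmp.Tensor

/-!
Tor amplitude relative to a composite of derived inverse images.
-/

universe u

open CategoryTheory CategoryTheory.Limits AlgebraicGeometry HomologicalComplex MonoidalCategory

attribute [local instance] HasDerivedCategory.standard

namespace Groth.DerivedCoh.RelAmp

open KFlat (tot stk pullCx IsKFlat)
open Groth.DAlg (extCx)

variable {X Y Z : Scheme.{u}}

local notation "up" => ComplexShape.up ℤ

/-- the stalks of `O_X[0]` -/
noncomputable def stkUnitCxIso (x : X) :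
    ((stk x).mapHomologicalComplex up).obj (DerSch.unitCx X) ≅
      (single (ModuleCat.{u} (X.presheaf.stalk x)) up 0).obj (𝟙_ _) :=
  (singleMapHomologicalComplex (stk x) up 0).app (Coh.structureModule X) ≪≫
    (single _ up 0).mapIso (LinearEquiv.toModuleIso
      (X₁ := (X.presheaf.stalk x : Type u))
      (X₂ := ((stk x).obj (Coh.structureModule X) : Type u)) (Groth.RefRank.oneEquiv x)).symm

/-- tensoring with the unit -/
noncomputable def totUnitIso {R : Type u} [CommRing R] (C : DRing.Cx R) :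
    tot (DAlg.KFlatMod.T R) ((single (ModuleCat.{u} R) up 0).obj (𝟙_ _)) C ≅ C :=
  KFlat.totSingleIso (DAlg.KFlatMod.T R) (𝟙_ _) C ≪≫
    (NatIso.mapHomologicalComplex (leftUnitorNatIso (ModuleCat.{u} R)) up).app C ≪≫
      (Functor.mapHomologicalComplexIdIso _ up).app C

/-- relative tor amplitude of `Lf^*G` -/
theorem hasTorAmplitudeD_Lpull (f : X ⟶ Y) (g : Y ⟶ Z) (a b : ℤ)
    (hf : DerSch.HasTorAmplitude f a b (DerSch.unitCx X)) (G : CochainComplex Y.Modules ℤ) (c d : ℤ)
    (hG : DerSch.HasTorAmplitude g c d G) [DCoh.HasLpull f] :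
    DerSch.HasTorAmplitudeD (f ≫ g) (a + c) (b + d) ((DCoh.Lpull f).obj (DCoh.toD Y G)) := by
  let P := (KFlat.flatResolution Y).obj G
  have hP : IsKFlat (KFlat.T Y) P := KFlat.flatResolution_isKFlat G
  refine hasTorAmplitudeD_of_rep (f ≫ g) _ (lpullResIso f G).symm fun x => ?_
  refine StalkAmp.torAmp_of_iso (DerivedCategory.Q.mapIso ?_)
    (hasTorAmplitude_tot f g (DerSch.unitCx X) a b hf P hP c d (hasTorAmplitude_res g hG) x)
  refine ((DerSch.stalkCxOver (f ≫ g) x).mapIso (Iso.refl _)) ≪≫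
    ((Functor.mapHomologicalComplexCompIso (Iso.refl (stk x ⋙
      ModuleCat.restrictScalars ((f ≫ g).stalkMap x).hom)) up).symm.app _) ≪≫
    (DRing.restrictCx _).mapIso (KFlat.stkTotIso x ((pullCx f).obj P) (DerSch.unitCx X) ≪≫
      brT _ _ ≪≫ (tensorRight _).mapIso (stkUnitCxIso x) ≪≫ totUnitIso _) ≪≫
    (Functor.mapHomologicalComplexCompIso (Iso.refl (stk x ⋙
      ModuleCat.restrictScalars ((f ≫ g).stalkMap x).hom)) up).app _

end Groth.DerivedCoh.RelAmp
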