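import Groth.Agent.DerivedCoh.RelAmp.TorIndep
import Groth.Agent.DerivedCoh.RelAmp.Pullback
import Groth.Agent.DerivedCoh.KFlat.LpullComp
import Groth.Agent.QCohMod.PullbackQCoh

/-!
Relative tor amplitude and external tensor products over a base.
-/

universe u

open CategoryTheory CategoryTheory.Limits AlgebraicGeometry HomologicalComplex

attribute [local instance] HasDerivedCategory.standard
set_option linter.style.haveILetI false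

namespace Groth.DerivedCoh.RelAmp

open KFlat (tot stk pullCx IsKFlat)

variable {S X₁ Y₁ X₂ Y₂ X Y : Scheme.{u}}

local notation "up" => ComplexShape.up ℤ

/-- `O_X[0]` is K-flat -/
theorem isKFlat_unitCx (Z : Scheme.{u}) : IsKFlat (KFlat.T Z) (DerSch.unitCx Z) := by
  refine KFlat.isKFlat_of_flat (KFlat.T Z) _ 0
    (fun q hq => isZero_single_obj_X up 0 _ q (by omega)) fun q => KFlat.flat_of_isFlat ?_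
  by_cases hq : q = 0
  · subst hq
    exact Groth.CohTwo.isFlat_of_iso (singleObjXSelf up 0 (Coh.structureModule Z)).symm fun z =>
      Module.Flat.of_linearEquiv (Groth.RefRank.oneEquiv z).symm
  · exact KFlat.isFlat_of_isZero (isZero_single_obj_X up 0 _ q hq)

/-- `f^*(O_Y[0]) ≅ O_X[0]` -/
noncomputable def pullUnitCxIso (f : X ⟶ Y) : (pullCx f).obj (DerSch.unitCx Y) ≅ DerSch.unitCx X :=
  (singleMapHomologicalComplex (Scheme.Modules.pullback f) up 0).app (Coh.structureModule Y) ≪≫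
    (single X.Modules up 0).mapIso (Groth.QCohMod.pullUnitIso f).symm

/-- a morphism of fibre products, factored through the product with the second target -/
structure Factor (f₁ : X₁ ⟶ Y₁) (q₁ : Y₁ ⟶ S) (f₂ : X₂ ⟶ Y₂) (q₂ : Y₂ ⟶ S) (pX₁ : X ⟶ X₁) (pX₂ : X ⟶ X₂)
    (pY₁ : Y ⟶ Y₁) (f : X ⟶ Y) where
  M : Scheme.{u}
  m₁ : M ⟶ X₁
  m₂ : M ⟶ Y₂
  u : X ⟶ M
  v : M ⟶ Y
  base : IsPullback m₂ m₁ q₂ (f₁ ≫ q₁)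
  fst : IsPullback m₁ v f₁ pY₁
  snd : IsPullback pX₂ u f₂ m₂
  comp : u ≫ v = f
  u_m₁ : u ≫ m₁ = pX₁

/-- factorisation of a morphism of fibre products -/
theorem nonempty_factor (f₁ : X₁ ⟶ Y₁) (q₁ : Y₁ ⟶ S) (f₂ : X₂ ⟶ Y₂) (q₂ : Y₂ ⟶ S)
    (pX₁ : X ⟶ X₁) (pX₂ : X ⟶ X₂) (hX : IsPullback pX₁ pX₂ (f₁ ≫ q₁) (f₂ ≫ q₂))
    (pY₁ : Y ⟶ Y₁) (pY₂ : Y ⟶ Y₂) (hY : IsPullback pY₁ pY₂ q₁ q₂)
    (f : X ⟶ Y) (hf₁ : f ≫ pY₁ = pX₁ ≫ f₁) (hf₂ : f ≫ pY₂ = pX₂ ≫ f₂) :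
    Nonempty (Factor f₁ q₁ f₂ q₂ pX₁ pX₂ pY₁ f) := by
  have t := IsPullback.of_hasPullback (f₁ ≫ q₁) q₂
  let m₁ := pullback.fst (f₁ ≫ q₁) q₂
  let m₂ := pullback.snd (f₁ ≫ q₁) q₂
  let u : X ⟶ pullback (f₁ ≫ q₁) q₂ :=
    t.lift pX₁ (pX₂ ≫ f₂) (by rw [hX.w, Category.assoc])
  let v : pullback (f₁ ≫ q₁) q₂ ⟶ Y := hY.lift (m₁ ≫ f₁) m₂ (by rw [Category.assoc, t.w])
  have fst : IsPullback m₁ v f₁ pY₁ :=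
    IsPullback.of_bot (v₂₁ := pY₂) (v₂₂ := q₁) (h₃₁ := q₂) (by rw [hY.lift_snd]; exact t)
      (hY.lift_fst _ _ _).symm hY
  have snd : IsPullback pX₂ u f₂ m₂ :=
    IsPullback.of_bot (v₂₁ := m₁) (v₂₂ := q₂) (h₃₁ := f₁ ≫ q₁) (by rw [t.lift_fst]; exact hX.flip)
      (t.lift_snd _ _ _).symm t.flip
  refine ⟨⟨_, m₁, m₂, u, v, t.flip, fst, snd, hY.hom_ext ?_ ?_, t.lift_fst _ _ _⟩⟩
  · rw [Category.assoc, hY.lift_fst, ← Category.assoc, t.lift_fst, hf₁]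
  · rw [Category.assoc, hY.lift_snd, t.lift_snd, hf₂]

/-- tor dimension of a product of morphisms -/
theorem hasTorDimLE_prod (f₁ : X₁ ⟶ Y₁) (q₁ : Y₁ ⟶ S) (f₂ : X₂ ⟶ Y₂) (q₂ : Y₂ ⟶ S) [Flat q₂] [Flat (f₂ ≫ q₂)]
    (pX₁ : X ⟶ X₁) (pX₂ : X ⟶ X₂) (hX : IsPullback pX₁ pX₂ (f₁ ≫ q₁) (f₂ ≫ q₂))
    (pY₁ : Y ⟶ Y₁) (pY₂ : Y ⟶ Y₂) (hY : IsPullback pY₁ pY₂ q₁ q₂)
    (f : X ⟶ Y) (hf₁ : f ≫ pY₁ = pX₁ ≫ f₁) (hf₂ : f ≫ pY₂ = pX₂ ≫ f₂)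
    (n₁ n₂ : ℕ) (h₁ : DerSch.HasTorDimLE f₁ n₁) (h₂ : DerSch.HasTorDimLE f₂ n₂) :
    DerSch.HasTorDimLE f (n₁ + n₂) := by
  obtain ⟨F⟩ := nonempty_factor f₁ q₁ f₂ q₂ pX₁ pX₂ hX pY₁ pY₂ hY f hf₁ hf₂
  haveI : Flat pY₁ := MorphismProperty.of_isPullback hY.flip inferInstance
  have hv : DerSch.HasTorDimLE F.v n₁ := fun z =>
    hasTorAmplitudeAt_of_iso F.v z (DerivedCategory.Q.mapIso (pullUnitCxIso F.m₁))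
      (hasTorAmplitude_pullCx F.fst _ h₁ z)
  have hu : DerSch.HasTorDimLE F.u n₂ := fun z =>
    hasTorAmplitudeAt_of_iso F.u z (DerivedCategory.Q.mapIso (pullUnitCxIso pX₂))
      (hasTorAmplitude_pullCx_torIndep F.snd q₂ (f₁ ≫ q₁) F.m₁ F.base _ (isKFlat_unitCx X₂) h₂ z)
  have h := hasTorAmplitude_comp F.u F.v n₁ hv _ _ _ hu
  rw [F.comp] at h
  change DerSch.HasTorAmplitude f (-((n₁ + n₂ : ℕ) : ℤ)) 0 _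
  rwa [show (-((n₁ + n₂ : ℕ) : ℤ)) = -(n₂ : ℤ) - n₁ by omega]

/-- relative tor amplitude of an external tensor product -/
theorem hasTorAmplitudeD_external (f₁ : X₁ ⟶ Y₁) (q₁ : Y₁ ⟶ S) (f₂ : X₂ ⟶ Y₂) (q₂ : Y₂ ⟶ S)
    [Flat q₂] [Flat (f₂ ≫ q₂)]
    (pX₁ : X ⟶ X₁) (pX₂ : X ⟶ X₂) (hX : IsPullback pX₁ pX₂ (f₁ ≫ q₁) (f₂ ≫ q₂))
    (pY₁ : Y ⟶ Y₁) (pY₂ : Y ⟶ Y₂) (hY : IsPullback pY₁ pY₂ q₁ q₂)
    (f : X ⟶ Y) (hf₁ : f ≫ pY₁ = pX₁ ≫ f₁) (hf₂ : f ≫ pY₂ = pX₂ ≫ f₂)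
    (E₁ : CochainComplex X₁.Modules ℤ) (a₁ b₁ : ℤ) (h₁ : DerSch.HasTorAmplitude f₁ a₁ b₁ E₁)
    (E₂ : CochainComplex X₂.Modules ℤ) (a₂ b₂ : ℤ) (h₂ : DerSch.HasTorAmplitude f₂ a₂ b₂ E₂)
    [DCoh.HasLpull pX₁] [DCoh.HasLpull pX₂]
    (K₂ : CochainComplex X.Modules ℤ) [DCoh.HasLTensorCx K₂]
    (e : DCoh.toD X K₂ ≅ (DCoh.Lpull pX₂).obj (DCoh.toD X₂ E₂)) :
    DerSch.HasTorAmplitudeD f (a₁ + a₂) (b₁ + b₂)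
      ((DCoh.LTensorCx K₂).obj ((DCoh.Lpull pX₁).obj (DCoh.toD X₁ E₁))) := by
  obtain ⟨F⟩ := nonempty_factor f₁ q₁ f₂ q₂ pX₁ pX₂ hX pY₁ pY₂ hY f hf₁ hf₂
  haveI : Flat pY₁ := MorphismProperty.of_isPullback hY.flip inferInstance
  let P₁ := (KFlat.flatResolution X₁).obj E₁
  have hP₁ : IsKFlat (KFlat.T X₁) P₁ := KFlat.flatResolution_isKFlat E₁
  have hu : DerSch.HasTorAmplitude F.u a₂ b₂ K₂ := fun x =>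
    hasTorAmplitudeAt_of_iso F.u x (e ≪≫ lpullResIso pX₂ E₂).symm
      (hasTorAmplitude_pullCx_torIndep F.snd q₂ (f₁ ≫ q₁) F.m₁ F.base _ (KFlat.flatResolution_isKFlat E₂)
        (hasTorAmplitude_res f₂ h₂) x)
  have h := hasTorAmplitude_tot F.u F.v K₂ a₂ b₂ hu ((pullCx F.m₁).obj P₁) (KFlat.isKFlat_pullCx _ _ hP₁)
    a₁ b₁ (hasTorAmplitude_pullCx F.fst P₁ (hasTorAmplitude_res f₁ h₁))
  rw [F.comp, add_comm a₂, add_comm b₂] at h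
  have := KFlat.isIso_ltcxCounit_app K₂ _ (isKFlat_flip_of_isKFlat (KFlat.isKFlat_pullCx pX₁ _ hP₁))
  let c : (pullCx F.u).obj ((pullCx F.m₁).obj P₁) ≅ (pullCx pX₁).obj P₁ :=
    (KFlat.pullCxComp F.u F.m₁).app P₁ ≪≫
      eqToIso (congrArg (fun p => (pullCx p).obj P₁) F.u_m₁)
  exact hasTorAmplitudeD_of_rep f _
    (DerivedCategory.Q.mapIso ((KFlat.totL (KFlat.T X) K₂).mapIso c) ≪≫
      ((DCoh.LTensorCx K₂).mapIso (lpullResIso pX₁ E₁) ≪≫ asIso ((KFlat.ltcxCounit K₂).app _)).symm) h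

end Groth.DerivedCoh.RelAmp
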