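import Groth.Agent.DerivedCoh.RelAmp.PerfDim
import Groth.Agent.RelPC.Module
import Groth.Agent.DAlg.FlatFPModulePC
import Groth.Agent.Flatmor4.FlatModAffine
import Groth.Agent.RelPC.Rel

/-!
Flat modules of relative finite presentation are relatively pseudo-coherent.
-/

universe u

open CategoryTheory CategoryTheory.Limits AlgebraicGeometry HomologicalComplex
open Groth.KTheory.Perf (Rd)
open Opposite

attribute [local instance] HasDerivedCategory.standard
set_option linter.style.haveILetI false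

namespace Groth.DerivedCoh.RelAmp

open Groth.RelPC (Pd)

variable {X Y : Scheme.{u}}

/-- sections of a direct image along a chart -/
noncomputable def pushChartSectionsEquiv {U : X.Opens} {V : Y.Opens} {n : ℕ}
    (φ : MvPolynomial (Fin n) Γ(Y, V) →+* Γ(X, U)) (M : X.Modules) :
    letI : Module (MvPolynomial (Fin n) Γ(Y, V)) Γ(M, U) := Module.compHom Γ(M, U) φ
    (moduleSpecΓFunctor.obj ((Scheme.Modules.pushforward (DerSch.chartImm U φ)).obj (M.restrict U.ι)) :
      ModuleCat (CommRingCat.of (MvPolynomial (Fin n) Γ(Y, V)))) ≃ₗ[MvPolynomial (Fin n) Γ(Y, V)] Γ(M, U) := by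
  letI : Module (MvPolynomial (Fin n) Γ(Y, V)) Γ(M, U) := Module.compHom Γ(M, U) φ
  have hle : U ≤ U.ι ''ᵁ (⊤ : (U : Scheme.{u}).Opens) := U.ι_image_top.ge
  have hge : U.ι ''ᵁ (⊤ : (U : Scheme.{u}).Opens) ≤ U := U.ι_image_top.le
  let a : (moduleSpecΓFunctor.obj ((Scheme.Modules.pushforward (DerSch.chartImm U φ)).obj (M.restrict U.ι)) :
      ModuleCat (CommRingCat.of (MvPolynomial (Fin n) Γ(Y, V)))) ≃ₗ[MvPolynomial (Fin n) Γ(Y, V)] Γ(M, U) :=
    { toFun := fun x => Groth.QCohMod.res M hle (show Γ(M, U.ι ''ᵁ (⊤ : (U : Scheme.{u}).Opens)) from x)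
      invFun := fun y => Groth.QCohMod.res M hge y
      left_inv := fun x => (Groth.QCohMod.res_res M _ _ _).trans (Groth.QCohMod.res_self M _)
      right_inv := fun x => (Groth.QCohMod.res_res M _ _ _).trans (Groth.QCohMod.res_self M _)
      map_add' := fun _ _ => map_add _ _ _
      map_smul' := fun p x => by
        refine (congrArg (Groth.QCohMod.res M hle) (Groth.RelPC.smul_push_spec (DerSch.chartImm U φ) (M.restrict U.ι) p x)).trans ?_
        rw [Groth.RelPC.chartImm_appTop]
        refine (Groth.QCohMod.res_smul M hle ((U.ι.appIso ⊤).inv (U.topIso.inv (φ p))) _).trans ?_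
        refine congrArg₂ (· • ·) ?_ rfl
        simp only [Scheme.Opens.ι_appIso, Iso.refl_inv]
        exact (congr($((X.presheaf.map_comp _ _).symm) (φ p))).trans
          (congr($(X.presheaf.map_id (op U)) (φ p))) }
  exact a

/-- sections of a direct image along a chart, as modules over the polynomial ring -/
noncomputable def pushChartSectionsIso {U : X.Opens} {V : Y.Opens} {n : ℕ}
    (φ : MvPolynomial (Fin n) Γ(Y, V) →+* Γ(X, U)) (M : X.Modules) :
    letI : Module (MvPolynomial (Fin n) Γ(Y, V)) Γ(M, U) := Module.compHom Γ(M, U) φ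
    (moduleSpecΓFunctor.obj ((Scheme.Modules.pushforward (DerSch.chartImm U φ)).obj (M.restrict U.ι)) :
      ModuleCat (CommRingCat.of (MvPolynomial (Fin n) Γ(Y, V)))) ≅
        ModuleCat.of (MvPolynomial (Fin n) Γ(Y, V)) Γ(M, U) :=
  letI : Module (MvPolynomial (Fin n) Γ(Y, V)) Γ(M, U) := Module.compHom Γ(M, U) φ
  LinearEquiv.toModuleIso (pushChartSectionsEquiv φ M)

/-- the sheaf of a pseudo-coherent module is pseudo-coherent -/
theorem pcD_inD_tilde (S : Type u) [CommRing S] (N : ModuleCat.{u} S)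
    (h : DRing.IsPseudoCoherentModule' S N) (m : ℤ) :
    DCoh.IsPseudoCoherentD m (DCoh.inD _ ((tilde.functor (CommRingCat.of S)).obj N)) := by
  haveI := Groth.PropsBasic2.preservesFiniteLimits_tilde (R := CommRingCat.of S)
  haveI := Groth.DerivedCoh.TildeD.preservesFiniteColimits S
  refine Groth.DerivedCoh.PCoh.isPseudoCoherentD_of_iso ?_
    ((Groth.DerivedCoh.TildeD.isPseudoCoherentD_tildeD_iff _ m).2
      (Groth.DAlg.isPseudoCoherent'_iff_forall.1 h m))
  exact (DCoh.tildeD (CommRingCat.of S)).mapIso ((DerivedCategory.singleFunctorIsoCompQ _ 0).app N) ≪≫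
    ((tilde.functor (CommRingCat.of S)).mapDerivedCategoryFactors.app _) ≪≫
    DerivedCategory.Q.mapIso ((HomologicalComplex.singleMapHomologicalComplex (tilde.functor (CommRingCat.of S))
      (ComplexShape.up ℤ) 0).app N) ≪≫
    ((DerivedCategory.singleFunctorIsoCompQ _ 0).app _).symm

/-- a quasi-coherent sheaf with pseudo-coherent module of sections is pseudo-coherent -/
theorem pcD_inD_of_sections (R : CommRingCat.{u}) (G : (Spec R).Modules) [G.IsQuasicoherent]
    (N : ModuleCat.{u} R) (a : moduleSpecΓFunctor.obj G ≅ N)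
    (h : DRing.IsPseudoCoherentModule' R N) (m : ℤ) : DCoh.IsPseudoCoherentD m (DCoh.inD _ G) := by
  exact Groth.DerivedCoh.PCoh.isPseudoCoherentD_of_iso ((DerivedCategory.singleFunctor _ 0).mapIso
    ((tilde.functor R).mapIso a.symm ≪≫ @asIso _ _ _ _ G.fromTildeΓ (Scheme.Modules.isIso_fromTildeΓ_of_isQuasicoherent G))) (pcD_inD_tilde R N h m)

/-- flat modules of relative finite presentation are pseudo-coherent relative to the base -/
theorem rel_inD_of_flatOver (f : X ⟶ Y) (M : X.Modules) (hfl : FlatMod.IsFlatOver f M)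
    (h : DerSch.IsPseudoCoherentRel f (-1) (DCoh.inD X M)) (m : ℤ) :
    DerSch.IsPseudoCoherentRel f m (DCoh.inD X M) := by
  haveI := h.1
  haveI hq : M.IsQuasicoherent := (Groth.QCohMod.isQCoh_iff_of_iso
    ((DerivedCategory.singleFunctorCompHomologyFunctorIso X.Modules 0).app M)).1
      (Groth.RelPC.isQCoh_hd_of_rel h (i := 0) (by omega))
  refine Groth.RelPC.rel_of_local fun x => ?_
  obtain ⟨V, hV, hxV, -⟩ := exists_isAffineOpen_mem_and_subset (U := (⊤ : Y.Opens)) (x := f x) trivial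
  obtain ⟨U, hU, hxU, hUV⟩ := exists_isAffineOpen_mem_and_subset (U := f ⁻¹ᵁ V) (x := x) hxV
  obtain ⟨n, φ, hφ⟩ := Groth.RelPC.exists_chart (f := f) hUV (f.finiteType_appLE hV hU hUV)
  haveI := Groth.RelPC.isClosedImmersion_chartImm hU φ hφ.1
  let G := (Scheme.Modules.pushforward (DerSch.chartImm U φ)).obj (M.restrict U.ι)
  haveI hG : G.IsQuasicoherent := Groth.QCohMod.isQCoh_pushforward (M := M.restrict U.ι) (DerSch.chartImm U φ)
  letI := Groth.Flatmor4.sectionModule f M hUV
  letI : Module (MvPolynomial (Fin n) Γ(Y, V)) Γ(M, U) := Module.compHom Γ(M, U) φ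
  haveI : IsScalarTower Γ(Y, V) (MvPolynomial (Fin n) Γ(Y, V)) Γ(M, U) := .of_algebraMap_smul fun r z =>
    congrArg (fun (c : Γ(X, U)) => c • z) (RingHom.congr_fun hφ.2 r)
  haveI : Module.Flat Γ(Y, V) Γ(M, U) :=
    (Groth.Flatmor4.flat_sections_iff f M hU hV hUV).2 fun y _ => hfl y
  have hfp : CohB1.IsFP G := (Groth.DerivedCoh.PCoh.pseudoCoherent_inD_iff _).2.1
    ((Groth.RelPC.pcD_push_inD_iff _ (-1) _).1
      (Groth.DerivedCoh.PCoh.isPseudoCoherentD_of_iso ((Pd _).mapIso
        (Groth.DerivedCoh.PCoh.rdInDIso U.ι M)) (Groth.RelPC.pcD_chart_of_rel h hU hV hφ)))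
  haveI : Module.FinitePresentation (MvPolynomial (Fin n) Γ(Y, V)) Γ(M, U) :=
    (Groth.RelPC.isFP_push_chart_iff hU φ hφ.1 M).1 hfp
  have hN : DRing.IsPseudoCoherentModule' (MvPolynomial (Fin n) Γ(Y, V)) Γ(M, U) :=
    Groth.DAlg.isPseudoCoherentModule'_of_flat_finitePresentation Γ(Y, V) (MvPolynomial (Fin n) Γ(Y, V)) Γ(M, U)
  refine ⟨U, V, hxU, hU, hV, hUV, n, φ, hφ, (Groth.RelPC.chartPC_iff hU φ m _).2 ?_⟩
  refine Groth.DerivedCoh.PCoh.isPseudoCoherentD_of_iso
    ((Pd _).mapIso (Groth.DerivedCoh.PCoh.rdInDIso U.ι M).symm) ((Groth.RelPC.pcD_push_inD_iff _ m _).2 ?_)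
  exact pcD_inD_of_sections (CommRingCat.of (MvPolynomial (Fin n) Γ(Y, V))) G _ (pushChartSectionsIso φ M) hN m

/-- tor amplitude `[0, 0]` of a module is flatness over the base -/
theorem hasTorAmplitude_single_iff (f : X ⟶ Y) (M : X.Modules) :
    DerSch.HasTorAmplitude f 0 0 ((single X.Modules (ComplexShape.up ℤ) 0).obj M) ↔ FlatMod.IsFlatOver f M := by
  refine forall_congr' fun x => ?_
  let N := (DerSch.stalkOver f x).obj M
  let e : DRing.toD ((DerSch.stalkCxOver f x).obj ((single X.Modules (ComplexShape.up ℤ) 0).obj M)) ≅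
      Groth.DAlg.mD N :=
    DerivedCategory.Q.mapIso ((HomologicalComplex.singleMapHomologicalComplex (DerSch.stalkOver f x)
        (ComplexShape.up ℤ) 0).app M) ≪≫
      ((DerivedCategory.singleFunctorIsoCompQ _ 0).app N).symm
  exact ⟨fun h => Groth.DAlg.flat_of_torAmp_zero (M := N) (StalkAmp.torAmp_of_iso e h),
    fun h => haveI : Module.Flat (Y.presheaf.stalk (f x)) N := h
      StalkAmp.torAmp_of_iso e.symm (Groth.DAlg.torAmp_mD_of_flat N)⟩

/-- a bounded complex of flat modules has tor amplitude in its degrees -/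
theorem hasTorAmplitude_of_flat_terms (f : X ⟶ Y) (E : CochainComplex X.Modules ℤ) (a b : ℤ)
    (hab : DCoh.VanishesOutside E a b) (hfl : ∀ i : ℤ, FlatMod.IsFlatOver f (E.X i)) :
    DerSch.HasTorAmplitude f a b E := fun x =>
  ⟨(DerSch.stalkCxOver f x).obj E, fun i hi => (DerSch.stalkOver f x).map_isZero (hab i hi),
    fun i => hfl i x, ⟨Iso.refl _⟩⟩

/-- `M[0]` in the derived category -/
noncomputable def singleToDIso (M : X.Modules) :
    DCoh.inD X M ≅ DCoh.toD X ((single X.Modules (ComplexShape.up ℤ) 0).obj M) :=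
  (DerivedCategory.singleFunctorIsoCompQ _ 0).app M

end Groth.DerivedCoh.RelAmp
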