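import Groth.Agent.DerivedCoh.RelAmp.Basic
import Groth.Agent.CohTwo.PushStalkModule

/-!
Relative tor amplitude and closed immersions.
-/

universe u

open CategoryTheory CategoryTheory.Limits AlgebraicGeometry HomologicalComplex

attribute [local instance] HasDerivedCategory.standard
set_option linter.style.haveILetI false

namespace Groth.DerivedCoh.RelAmp

open KFlat (stk)

variable {X Y Z : Scheme.{u}}

local notation "up" => ComplexShape.up ℤ

/-- the stalks of a direct image by a closed immersion -/
noncomputable def pushStkIso (i : X ⟶ Y) [IsClosedImmersion i] (x : X) :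
    Scheme.Modules.pushforward i ⋙ stk (i x) ≅ DerSch.stalkOver i x :=
  NatIso.ofComponents
    (fun M => (LinearEquiv.ofBijective
      (M₂ := ((DerSch.stalkOver i x).obj M : Type u))
      ({ toFun := Groth.CohTwo.pushStalk i M x
         map_add' := map_add _
         map_smul' := fun a t => Groth.CohTwo.pushStalk_smul i M x a t } :
        ((stk (i x)).obj ((Scheme.Modules.pushforward i).obj M) : Type u) →ₗ[Y.presheaf.stalk (i x)]
          ((DerSch.stalkOver i x).obj M : Type u))
      (Groth.CohTwo.bijective_pushStalk i M x)).toModuleIso)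
    fun {M N} φ => by
      apply ModuleCat.hom_ext
      apply LinearMap.ext
      intro t
      obtain ⟨U, hU, s, rfl⟩ := ((Scheme.Modules.pushforward i).obj M).presheaf.exists_germ_eq (x := i x) t
      change Groth.CohTwo.pushStalk i N x ((stk (i x)).map ((Scheme.Modules.pushforward i).map φ)
          (((Scheme.Modules.pushforward i).obj M).presheaf.germ U (i x) hU s)) =
        (stk x).map φ (Groth.CohTwo.pushStalk i M x
          (((Scheme.Modules.pushforward i).obj M).presheaf.germ U (i x) hU s))
      refine (congrArg _ (DerSch.stalkFunctor_map_germ (i x) ((Scheme.Modules.pushforward i).map φ) U hU s)).trans ?_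
      refine (Groth.CohTwo.pushStalk_germ i N x hU _).trans ?_
      refine Eq.trans ?_ (congrArg _ (Groth.CohTwo.pushStalk_germ i M x hU s)).symm
      exact (DerSch.stalkFunctor_map_germ x φ (i ⁻¹ᵁ U) hU s).symm

/-- tor amplitude relative to a closed immersion from the tor amplitude of the direct image -/
theorem hasTorAmplitude_of_push (i : X ⟶ Y) [IsClosedImmersion i] (F : CochainComplex X.Modules ℤ) {a b : ℤ}
    (hF : DCoh.HasFlatAmplitudeIn a b
      (DCoh.toD Y (((Scheme.Modules.pushforward i).mapHomologicalComplex up).obj F))) :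
    DerSch.HasTorAmplitude i a b F := fun x =>
  StalkAmp.torAmp_of_iso
    (DerivedCategory.Q.mapIso ((Functor.mapHomologicalComplexCompIso (pushStkIso i x) up).app F))
    ((StalkAmp.stalkAmp_toD_iff _ a b).1 (StalkAmp.stalkAmp_of_flatAmp hF) (i x))

/-- a flat morphism has tor dimension zero -/
theorem hasTorDimLE_zero (f : X ⟶ Y) [Flat f] : DerSch.HasTorDimLE f 0 := fun x => by
  refine (Groth.Misc13.TorDimFactor.hasTorAmplitudeAt_unit_iff f x _ _).2 ?_
  let := (f.stalkMap x).hom.toAlgebra
  haveI : Module.Flat (Y.presheaf.stalk (f x)) (X.presheaf.stalk x) := Flat.stalkMap f x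
  simpa using DAlg.torAmp_mD_of_flat (ModuleCat.of (Y.presheaf.stalk (f x)) (X.presheaf.stalk x))

end Groth.DerivedCoh.RelAmp
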