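import Groth.Agent.DerivedCoh.RelAmp.Vanish
import Groth.Agent.DerivedCoh.RelAmp.ClosedImm
import Groth.Agent.DAlg.TorDim
import Groth.Agent.DerivedCoh.RelAmp
import Groth.Agent.DerivedCoh.StalkAmp.QCohTest
import Groth.Agent.DerivedCoh.PerfPush.ProperSupp
import Groth.Agent.DerivedCoh.KFlat.LpullComp
import Groth.Agent.Misc4.ProjQCoh
import Groth.Agent.Misc4.QCohDColim
import Groth.Agent.Misc4.QCohRpushD

/-!
Tor amplitude, relative to a base, of derived direct images.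

The lower bound is read off from the projection formula: `Rf_*E ⊗^L Lq^*M = Rf_*(E ⊗^L Lp^*M)` has no
cohomology below the lower tor amplitude of `E`; the upper bound is the cohomological one.
-/

universe u

open CategoryTheory CategoryTheory.Limits AlgebraicGeometry HomologicalComplex MonoidalCategory

attribute [local instance] HasDerivedCategory.standard
set_option linter.style.haveILetI false

namespace Groth.DerivedCoh.RelAmp

open KFlat (tot totL totR stk pullCx IsKFlat)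
open Groth.DAlg (extCx)

local notation "up" => ComplexShape.up ℤ

section Algebra

open Groth.DAlg Groth.DAlg.KFlatMod

variable {A : Type u} [CommRing A]

/-- `M ⊗ W` for a K-flat resolution `W` of a module `N` is `E ⊗ N` for a flat bounded above model `E` of `M` -/
theorem nonempty_totFlatIso (M E : DRing.Cx A) {b : ℤ} (hb : DRing.VanishesAbove E b)
    (hE : DRing.TermwiseFlat E) (e : DRing.toD E ≅ DRing.toD M) (W : DRing.Cx A) (hW : IsKFlatCx A W)
    (N : ModuleCat.{u} A) (w : W ⟶ (single (ModuleCat.{u} A) up 0).obj N) [QuasiIso w] :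
    Nonempty (DRing.toD (tot (KFlatMod.T A) M W) ≅ DRing.toD (DRing.tensorCx E N)) := by
  have hEk : IsKFlatCx A E := isKFlatCx_of_flat E hb hE
  let π := (resAug A).app M
  haveI : QuasiIso π := resAug_quasiIso M
  haveI hL : ∀ L : DRing.Cx A, IsKFlatCx A L → DRing.HasLTensorCx A L := fun L hL => by
    haveI := (DRing.tensorCxQ A L).hasPointwiseLeftDerivedFunctor_of_inverts
      (W := HomologicalComplex.quasiIso (ModuleCat.{u} A) up) (fun X Y f hf => by
        haveI : QuasiIso f := (HomologicalComplex.mem_quasiIso_iff f).1 hf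
        exact (DerivedCategory.isIso_Q_map_iff_quasiIso _ _).2 ((isKFlatCx_iff.1 hL).quasiIso_totL f))
    exact Functor.hasLeftDerivedFunctor_of_hasPointwiseLeftDerivedFunctor _ _
  haveI := hL W hW
  have hQ : IsIso (DerivedCategory.Q.map ((totL (KFlatMod.T A) W).map π)) :=
    (DerivedCategory.isIso_Q_map_iff_quasiIso _ _).2 ((isKFlatCx_iff.1 hW).quasiIso_totL π)
  let e₁ : DRing.toD (tot (KFlatMod.T A) M W) ≅ DRing.toD (tot (KFlatMod.T A) E W) :=
    (@asIso _ _ _ _ (DerivedCategory.Q.map ((totL (KFlatMod.T A) W).map π)) hQ).symm ≪≫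
      (lTensorCxIso W _ (res_isKFlat M)).symm ≪≫
      (DRing.LTensorCx A W).mapIso (asIso (DerivedCategory.Q.map π) ≪≫ e.symm) ≪≫ lTensorCxIso W E hEk
  have hQ' : IsIso (DerivedCategory.Q.map ((totR (KFlatMod.T A) E).map w)) :=
    (DerivedCategory.isIso_Q_map_iff_quasiIso _ _).2
      (KFlat.quasiIso_totR (KFlatMod.T A) (isKFlat_flip (isKFlatCx_iff.1 hEk)) w)
  exact ⟨e₁ ≪≫ @asIso _ _ _ _ (DerivedCategory.Q.map ((totR (KFlatMod.T A) E).map w)) hQ' ≪≫
      DerivedCategory.Q.mapIso (brT _ _ ≪≫ KFlat.totSingleIso (KFlatMod.T A) N E ≪≫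
        (NatIso.mapHomologicalComplex (BraidedCategory.tensorLeftIsoTensorRight N) up).app E)⟩

/-- tor amplitude from the exactness of the tensor products with K-flat resolutions of modules -/
theorem torAmp_of_tot_test (M : DRing.Cx A) (a b : ℤ) (hb : ∀ i, b < i → M.ExactAt i)
    (h : ∀ N : ModuleCat.{u} A, ∃ (W : DRing.Cx A) (w : W ⟶ (single (ModuleCat.{u} A) up 0).obj N),
      QuasiIso w ∧ IsKFlatCx A W ∧ ∀ i < a, (tot (KFlatMod.T A) M W).ExactAt i) :
    DRing.HasTorAmplitudeIn A a b (DRing.toD M) := by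
  obtain ⟨P, hP, hfree, ⟨e⟩⟩ := exists_free_rep A (K := DRing.toD M) (b := b)
    fun i hi => subsingleton_HD_toD ((exactAt_iff_isZero_homology _ i).1 (hb i hi))
  have hflat : DRing.TermwiseFlat P := fun i => haveI := hfree i; inferInstance
  refine StalkAmp.torAmp_of_iso e (torAmplitude_of_isZero P hP hflat fun N i hi => ?_)
  obtain ⟨W, w, hw, hW, hex⟩ := h N
  obtain ⟨e'⟩ := nonempty_totFlatIso M P hP hflat e W hW N w
  exact ((exactAt_iff_isZero_homology _ i).1 (hex i hi)).of_iso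
    (((DerivedCategory.homologyFunctorFactors _ i).app _).symm ≪≫
      (DerivedCategory.homologyFunctor _ i).mapIso e'.symm ≪≫
        (DerivedCategory.homologyFunctorFactors _ i).app _)

end Algebra

variable {X Y S : Scheme.{u}}

/-- relative tor amplitude at a point, tested on quasi-coherent modules of a quasi-separated base -/
theorem ampAt_of_test [QuasiSeparatedSpace S] (q : Y ⟶ S) (G : DCoh.D Y) (y : Y) (a b : ℤ) [G.IsLE b]
    (h : ∀ (M : S.Modules) (P : CochainComplex S.Modules ℤ) (w : P ⟶ (single S.Modules up 0).obj M)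
      [QuasiIso w], Coh.IsQCoh M → IsKFlat (KFlat.T S) P → ∀ [DCoh.HasLTensorCx ((pullCx q).obj P)],
      ∀ i < a, IsZero (DCoh.HD ((DCoh.LTensorCx ((pullCx q).obj P)).obj G) i)) :
    AmpAt q a b G y := by
  obtain ⟨C, ⟨eC⟩⟩ : ∃ C : CochainComplex Y.Modules ℤ, Nonempty (DCoh.toD Y C ≅ G) :=
    ⟨_, ⟨DerivedCategory.Q.objObjPreimageIso G⟩⟩
  let C' := (KFlat.flatResolution Y).obj C
  haveI := KFlat.flatResolution_quasiIso C
  let eC' : DCoh.toD Y C' ≅ G :=
    asIso (DerivedCategory.Q.map ((KFlat.flatResolutionAug Y).app C)) ≪≫ eC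
  refine AmpAt.of_iso ((ampAt_toD_iff C' a b y).2 ?_) eC'
  let φ := (q.stalkMap y).hom
  let K := (DRing.restrictCx φ).obj (((stk y).mapHomologicalComplex up).obj C')
  have hK : ∀ i, b < i → K.ExactAt i := fun i hi => by
    have h0 : C'.ExactAt i :=
      (KFlat.isZero_hd_toD_iff C' i).1 (KFlat.isZero_hd_of_iso eC' (G.isZero_of_isLE b i hi))
    exact ShortComplex.Exact.map (ShortComplex.Exact.map h0 (stk y))
      (ModuleCat.restrictScalars.{u} φ)
  refine StalkAmp.torAmp_of_iso (DerivedCategory.Q.mapIso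
    ((Functor.mapHomologicalComplexCompIso (Iso.refl (stk y ⋙
      ModuleCat.restrictScalars (q.stalkMap y).hom)) up).app C'))
    (torAmp_of_tot_test K a b hK fun N => ?_)
  obtain ⟨M, hM, ⟨eN⟩⟩ := StalkAmp.exists_qcoh_stalk (q y) N
  let P := (KFlat.flatResolution S).obj ((single S.Modules up 0).obj M)
  haveI := KFlat.flatResolution_quasiIso ((single S.Modules up 0).obj M)
  have hP : IsKFlat (KFlat.T S) P := KFlat.flatResolution_isKFlat _
  let w := ((stk (q y)).mapHomologicalComplex up).map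
      ((KFlat.flatResolutionAug S).app ((single S.Modules up 0).obj M)) ≫
    ((singleMapHomologicalComplex (stk (q y)) up 0).app M).hom ≫
      ((single (ModuleCat.{u} (S.presheaf.stalk (q y))) up 0).mapIso eN).hom
  refine ⟨((stk (q y)).mapHomologicalComplex up).obj P, w, by dsimp only [w]; infer_instance,
    (KFlat.isKFlat_iff_stalk P).1 ((KFlat.isKFlat_iff P).2 hP) (q y), fun i hi => ?_⟩
  haveI := KFlat.hasLTensorCx ((pullCx q).obj P)
  have h1 := h M P ((KFlat.flatResolutionAug S).app _) hM hP i hi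
  have h2 : (tot (KFlat.T Y) C' ((pullCx q).obj P)).ExactAt i :=
    (KFlat.isZero_hd_toD_iff _ i).1 (KFlat.isZero_hd_of_iso
      (((KFlat.ltcxResIso ((pullCx q).obj P)).app C).symm ≪≫
        (DCoh.LTensorCx ((pullCx q).obj P)).mapIso eC) h1)
  have h3 : (((stk y).mapHomologicalComplex up).obj
      (tot (KFlat.T Y) C' ((pullCx q).obj P))).ExactAt i := ShortComplex.Exact.map h2 (stk y)
  have h4 := ExactAt.of_iso h3
    (KFlat.stkTotIso y C' ((pullCx q).obj P) ≪≫ (tensorLeft _).mapIso (pullCxStkIso q y P))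
  rw [← DAlg.exactAt_restrictCx_iff φ] at h4
  exact ExactAt.of_iso h4 (DAlg.resTotIso _ _ _)

/-- `E ⊗^L Lp^*M` has no cohomology outside the tor amplitude of `E` over the base -/
theorem isZero_HD_ltensor_pullCx (p : X ⟶ S) (F : CochainComplex X.Modules ℤ) {a b : ℤ}
    (hF : DerSch.HasTorAmplitude p a b F) (M : S.Modules) (P : CochainComplex S.Modules ℤ)
    (w : P ⟶ (single S.Modules up 0).obj M) [QuasiIso w] (hP : IsKFlat (KFlat.T S) P)
    (M' : CochainComplex X.Modules ℤ) (eM : M' ≅ (pullCx p).obj P) [DCoh.HasLTensorCx M']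
    {i : ℤ} (hi : i < a ∨ b < i) :
    IsZero (DCoh.HD ((DCoh.LTensorCx M').obj (DCoh.toD X F)) i) := by
  refine KFlat.isZero_hd_of_iso ((KFlat.ltcxResIso M').app F) ?_
  refine (KFlat.isZero_hd_toD_iff _ i).2 ?_
  refine StalkAmp.exactAt_of_stalk _ i fun x => ?_
  refine ExactAt.of_iso ?_ ((tensorLeft _).mapIso ((pullCxStkIso p x P).symm ≪≫
      ((stk x).mapHomologicalComplex up).mapIso eM.symm) ≪≫
    (KFlat.stkTotIso x ((KFlat.flatResolution X).obj F) M').symm)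
  rw [← DAlg.exactAt_restrictCx_iff (p.stalkMap x).hom]
  refine ExactAt.of_iso ?_ (DAlg.resTotIso _ _ _).symm
  let w' := ((stk (p x)).mapHomologicalComplex up).map w ≫
    ((singleMapHomologicalComplex (stk (p x)) up 0).app M).hom
  haveI : QuasiIso w' := by dsimp only [w']; infer_instance
  exact exactAt_tot_of_torAmp _ (StalkAmp.torAmp_of_iso (DerivedCategory.Q.mapIso
      ((Functor.mapHomologicalComplexCompIso (Iso.refl (stk x ⋙
        ModuleCat.restrictScalars (p.stalkMap x).hom)) up).symm.app _)) (hasTorAmplitude_res p hF x)) _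
    ((KFlat.isKFlat_iff_stalk P).1 ((KFlat.isKFlat_iff P).2 hP) (p x)) ((stk (p x)).obj M) w' hi

/-- relative tor amplitude of a derived direct image, over a quasi-separated base -/
theorem ampAt_Rpush_of_base [QuasiSeparatedSpace S] (p : X ⟶ S) (q : Y ⟶ S) (f : X ⟶ Y) (w : f ≫ q = p)
    [QuasiCompact f] [QuasiSeparated f] [DCoh.HasRpush f] (E : DCoh.D X) (hqc : DCoh.IsQCohD E)
    {a b : ℤ} (hE : ∀ x, AmpAt p a b E x) (b' : ℤ) [((DCoh.Rpush f).obj E).IsLE b'] (y : Y) :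
    AmpAt q a b' ((DCoh.Rpush f).obj E) y := by
  subst w
  refine ampAt_of_test q _ y a b' fun M P v _ hM hP _ i hi => ?_
  obtain ⟨F, ⟨eF⟩⟩ : ∃ F : CochainComplex X.Modules ℤ, Nonempty (DCoh.toD X F ≅ E) :=
    ⟨_, ⟨DerivedCategory.Q.objObjPreimageIso E⟩⟩
  have hF : DerSch.HasTorAmplitude (f ≫ q) a b F :=
    (hasTorAmplitude_iff F a b).2 fun x => (hE x).of_iso eF.symm
  let K := (pullCx q).obj P
  let M' := (pullCx f).obj K
  haveI := KFlat.hasLpull q
  haveI := KFlat.hasLTensorCx M'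
  have hK : IsKFlat (KFlat.T Y) K := KFlat.isKFlat_pullCx q _ hP
  have hKq : DCoh.IsQCohD (DCoh.toD Y K) := Groth.Misc4.QCohDPerf.isQCohD_of_iso
    (KFlat.lpullQIso q P hP)
    (Groth.Misc4.QCohDColim.isQCohD_Lpull q (Groth.Misc4.QCohDPerf.isQCohD_of_iso
      (((DerivedCategory.singleFunctorIsoCompQ S.Modules 0).app M) ≪≫
        (asIso (DerivedCategory.Q.map v)).symm)
      (haveI : M.IsQuasicoherent := hM; Groth.Misc4.QCohDColim.isQCohD_single M 0)))
  obtain ⟨e⟩ := Groth.Misc4.ProjQCoh.nonempty_projection f K hK hKq E hqc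
  refine KFlat.isZero_hd_of_iso e ?_
  have h0 : ∀ j, j < a → IsZero (DCoh.HD ((DCoh.LTensorCx M').obj E) j) := fun j hj =>
    KFlat.isZero_hd_of_iso ((DCoh.LTensorCx M').mapIso eF.symm)
      (isZero_HD_ltensor_pullCx (f ≫ q) F hF M P v hP M' ((KFlat.pullCxComp f q).app P) (Or.inl hj))
  haveI : ((DCoh.LTensorCx M').obj E).IsGE a := (DerivedCategory.isGE_iff _ a).2 h0
  haveI := Groth.DerivedCoh.PerfPush.isGE_Rpush f ((DCoh.LTensorCx M').obj E) a
  exact DerivedCategory.isZero_of_isGE _ a i hi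

open Groth.KTheory.Perf (Rd Rc rdQIso)

set_option backward.isDefEq.respectTransparency false in
set_option backward.defeqAttrib.useBackward true in
/-- `Rf_*` raises the upper bound by at most the bound on the higher direct images of quasi-coherent modules -/
theorem isLE_Rpush_of_vanish (f : X ⟶ Y) [QuasiCompact f] [QuasiSeparated f] [DCoh.HasRpush f] (N : ℕ)
    (hN : ∀ M : X.Modules, Coh.IsQCoh M → ∀ i : ℤ, (N : ℤ) < i →
      IsZero (DCoh.HD ((DCoh.Rpush f).obj (DCoh.inD X M)) i))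
    (E : DCoh.D X) (hE : DCoh.IsQCohD E) (e : ℤ) [E.IsLE e] :
    ((DCoh.Rpush f).obj E).IsLE (e + N) := by
  open Groth.Misc4.QCohCd in
  refine (DerivedCategory.isLE_iff _ _).2 fun m hm => ?_
  haveI : SiteCmp.HasRpushD (ModSite.RMor.ofScheme f) := (inferInstance : DCoh.HasRpush f)
  haveI : DerivedCategory.IsLE (C := ModSite.Mod X.sheaf) E e := (inferInstance : E.IsLE e)
  refine Groth.AdicLinTop.RpushBound.isZero_homology_RpushD (Groth.Misc4.QCohCd.qc X) (ModSite.RMor.ofScheme f)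
    {V | IsAffineOpen V} {V | IsAffineOpen V} (fun U => ?_) (fun V _ => ⟨0, fun T hT => ?_⟩)
    (fun U => ?_) (fun V hV => ?_) N (by omega) (fun F hF p hp => ?_) E hE e m hm
  · obtain ⟨ι, Y, g, -, hY, hB⟩ := exists_affine_cover U ⊤ (GrothendieckTopology.top_mem _ _)
    exact ⟨ι, Y, g, hY, hB⟩
  · obtain ⟨ι, Y, g, hg, hY, hB⟩ := exists_affine_cover V T hT
    refine ⟨ι, Y, g, hg, hY, fun i F hF k hk => ?_⟩
    obtain ⟨k, rfl⟩ := Nat.exists_eq_succ_of_ne_zero (show k ≠ 0 by omega)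
    exact @Groth.CohBase.hVanish_of_isAffineOpen X F hF _ (hB i) k
  · obtain ⟨ι, Y, g, -, hY, hB⟩ := exists_affine_cover U ⊤ (GrothendieckTopology.top_mem _ _)
    exact ⟨ι, Y, g, hY, hB⟩
  · obtain ⟨d, hd⟩ := exists_hVanish_basicOpen f hV
    refine ⟨d, fun T hT => ?_⟩
    obtain ⟨ι, Y, j, hj, hY, hb⟩ := exists_basic_cover hV T hT
    refine ⟨ι, Y, j, hj, hY, fun i F hF k hk => ?_⟩
    obtain ⟨g, hg⟩ := hb i
    rw [hg]
    exact hd F hF g k (by omega)
  · obtain ⟨c⟩ := Groth.DerivedCoh.PerfPush.nonempty_hd_single f F 0 (p : ℤ) p (by omega)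
    exact (hN F hF (p : ℤ) hp).of_iso c.symm

/-- relative tor amplitude of a derived direct image, over an affine open piece of the target and the base -/
theorem ampAt_Rpush_local (p : X ⟶ S) (q : Y ⟶ S) (f : X ⟶ Y) (w : f ≫ q = p) [QuasiCompact f]
    [QuasiSeparated f] [DCoh.HasRpush f] (E : DCoh.D X) (hqc : DCoh.IsQCohD E) {W : S.Opens}
    (hW : IsAffineOpen W) (Y' : Y.Opens) (hYW : Y' ≤ q ⁻¹ᵁ W) [DCoh.HasRpush (f ∣_ Y')] {a b : ℤ}
    (hE : ∀ x ∈ f ⁻¹ᵁ Y', AmpAt p a b E x) (b' : ℤ)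
    [((DCoh.Rpush (f ∣_ Y')).obj ((Rd (f ⁻¹ᵁ Y').ι).obj E)).IsLE b'] {y : Y} (hy : y ∈ Y') :
    AmpAt q a b' ((DCoh.Rpush f).obj E) y := by
  haveI : IsAffine (W : Scheme.{u}) := hW
  obtain ⟨c⟩ := Groth.Misc4.PushRestrict.restrictD_Rpush_iso f Y'
  let q' : (Y' : Scheme.{u}) ⟶ W := q.resLE W Y' hYW
  have hq : q' ≫ W.ι = Y'.ι ≫ q := Scheme.Hom.resLE_comp_ι q hYW
  have hp : ((f ∣_ Y') ≫ q') ≫ W.ι = (f ⁻¹ᵁ Y').ι ≫ p := by
    rw [Category.assoc, hq, ← Category.assoc, morphismRestrict_ι, Category.assoc, w]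
  obtain ⟨F, ⟨eF⟩⟩ : ∃ F : CochainComplex _ ℤ, Nonempty (DCoh.toD _ F ≅ (Rd (f ⁻¹ᵁ Y').ι).obj E) :=
    ⟨_, ⟨DerivedCategory.Q.objObjPreimageIso _⟩⟩
  have h1 : DerSch.HasTorAmplitude ((f ⁻¹ᵁ Y').ι ≫ p) a b F :=
    (hasTorAmplitude_iff F a b).2 fun x =>
      ((ampAt_rd_iff (f ⁻¹ᵁ Y').ι x p E a b).2 (hE x.1 x.2)).of_iso eF.symm
  rw [← hp] at h1
  have h2 := hasTorAmplitude_of_comp ((f ∣_ Y') ≫ q') W.ι F h1
  have h3 : ∀ v, AmpAt q' a b' ((DCoh.Rpush (f ∣_ Y')).obj ((Rd (f ⁻¹ᵁ Y').ι).obj E)) v :=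
    ampAt_Rpush_of_base ((f ∣_ Y') ≫ q') q' (f ∣_ Y') rfl _
      (Groth.Misc4.QCohDPerf.isQCohD_restrict _ hqc)
      (fun x => ((hasTorAmplitude_iff F a b).1 h2 x).of_iso eF) b'
  obtain ⟨G, ⟨eG⟩⟩ : ∃ G : CochainComplex _ ℤ,
      Nonempty (DCoh.toD _ G ≅ (DCoh.Rpush (f ∣_ Y')).obj ((Rd (f ⁻¹ᵁ Y').ι).obj E)) :=
    ⟨_, ⟨DerivedCategory.Q.objObjPreimageIso _⟩⟩
  have h4 := hasTorAmplitude_comp q' W.ι 0 (hasTorDimLE_zero W.ι) G a b'
    ((hasTorAmplitude_iff G a b').2 fun v => (h3 v).of_iso eG.symm)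
  rw [hq, Nat.cast_zero, sub_zero] at h4
  exact (ampAt_rd_iff Y'.ι ⟨y, hy⟩ q _ a b').1
    (((hasTorAmplitude_iff G a b').1 h4 ⟨y, hy⟩).of_iso (eG ≪≫ (c.app E).symm))

/-- relative tor amplitude of a derived direct image with bounded above cohomology -/
theorem ampAt_Rpush (p : X ⟶ S) (q : Y ⟶ S) (f : X ⟶ Y) (w : f ≫ q = p) [QuasiCompact f]
    [QuasiSeparated f] [DCoh.HasRpush f] (E : DCoh.D X) (hqc : DCoh.IsQCohD E) {a b : ℤ}
    (hE : ∀ x, AmpAt p a b E x) (b' : ℤ) [((DCoh.Rpush f).obj E).IsLE b'] (y : Y) :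
    AmpAt q a b' ((DCoh.Rpush f).obj E) y := by
  obtain ⟨W, hW, hyW, -⟩ := exists_isAffineOpen_mem_and_subset (show q y ∈ (⊤ : S.Opens) from trivial)
  obtain ⟨Y', -, hyY, hYW⟩ := exists_isAffineOpen_mem_and_subset (show y ∈ q ⁻¹ᵁ W from hyW)
  haveI : DCoh.HasRpush (f ∣_ Y') := Groth.Misc4.PushRestrict.hasRightDerived _
  obtain ⟨c⟩ := Groth.Misc4.PushRestrict.restrictD_Rpush_iso f Y'
  haveI : ((DCoh.Rpush (f ∣_ Y')).obj ((Rd (f ⁻¹ᵁ Y').ι).obj E)).IsLE b' :=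
    (DerivedCategory.isLE_iff _ _).2 fun i hi => by
      obtain ⟨e⟩ := Groth.KTheory.Perf.nonempty_hdRd Y'.ι ((DCoh.Rpush f).obj E) i
      exact KFlat.isZero_hd_of_iso (c.app E).symm
        (((Scheme.Modules.restrictFunctor Y'.ι).map_isZero
          (((DCoh.Rpush f).obj E).isZero_of_isLE b' i hi)).of_iso e)
  exact ampAt_Rpush_local p q f w E hqc hW Y' hYW (fun x _ => hE x) b' hyY

theorem hasTorAmplitude_congr {f g : X ⟶ Y} (h : f = g) {F : CochainComplex X.Modules ℤ} {a b : ℤ}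
    (hF : DerSch.HasTorAmplitude f a b F) : DerSch.HasTorAmplitude g a b F := h ▸ hF

/-- absolute finite tor dimension, locally, is stalkwise tor amplitude relative to the identity -/
theorem locHasFiniteTorDim_iff_locAmp (K : DCoh.D X) :
    DCoh.LocHasFiniteTorDim K ↔ LocAmp (𝟙 X) K := by
  refine ⟨fun h x => ?_, fun h x => ?_⟩
  · obtain ⟨V, a, b, hx, hV⟩ := h x
    obtain ⟨F, ⟨i⟩⟩ := Groth.KTheory.Perf.exists_rep K
    refine ⟨V, a, b, hx, fun y hy => ?_⟩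
    have h1 := hasTorAmplitude_comp (𝟙 (V : Scheme.{u})) V.ι 0 (hasTorDimLE_zero V.ι) _ a b
      ((StalkAmp.hasTorAmplitude_id_iff ((Rc V.ι).obj F) a b).2 (StalkAmp.stalkAmp_of_flatAmp (hV F ⟨i⟩)))
    rw [Nat.cast_zero, sub_zero] at h1
    replace h1 := hasTorAmplitude_congr (show 𝟙 (V : Scheme.{u}) ≫ V.ι = V.ι ≫ 𝟙 X by simp) h1
    exact AmpAt.of_iso ((ampAt_rd_iff V.ι ⟨y, hy⟩ (𝟙 X) _ a b).1
      (AmpAt.of_iso ((hasTorAmplitude_iff _ a b).1 h1 ⟨y, hy⟩) (rdQIso V.ι F).symm)) i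
  · obtain ⟨V, a, b, hx, hV⟩ := h x
    refine ⟨V, a, b, hx, fun F ⟨i⟩ => StalkAmp.flatAmp_of_stalkAmp
      ((StalkAmp.hasTorAmplitude_id_iff ((Rc V.ι).obj F) a b).1 (hasTorAmplitude_of_comp _ V.ι _ ?_))⟩
    refine hasTorAmplitude_congr (show V.ι ≫ 𝟙 X = 𝟙 (V : Scheme.{u}) ≫ V.ι by simp) ?_
    exact (hasTorAmplitude_iff _ a b).2 fun v => AmpAt.of_iso
      ((ampAt_rd_iff V.ι v (𝟙 X) (DCoh.toD X F) a b).2 ((hV v.1 v.2).of_iso i.symm)) (rdQIso V.ι F)

/-- composition with a morphism of finite tor dimension, at a point -/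
theorem ampAt_comp_id (f : X ⟶ Y) (x : X) {m n a b : ℤ}
    (hf : DerSch.HasTorAmplitudeAt f m n (DerSch.unitCx X) x) {E : DCoh.D X} (hE : AmpAt (𝟙 X) a b E x) :
    AmpAt f (a - (-m).toNat) b E x := by
  obtain ⟨F, ⟨eF⟩⟩ := Groth.KTheory.Perf.exists_rep E
  refine AmpAt.of_iso ((ampAt_toD_iff F _ b x).2 ?_) eF
  have hF := (ampAt_toD_iff F a b x).1 (hE.of_iso eF.symm)
  let := (f.stalkMap x).hom.toAlgebra
  have h0 := (Groth.Misc13.TorDimFactor.hasTorAmplitudeAt_unit_iff f x _ _).1 hf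
  obtain ⟨P, hP, hfree, ⟨e⟩⟩ := DAlg.exists_free_rep (Y.presheaf.stalk (f x)) (b := 0)
    (K := DAlg.mD (ModuleCat.of (Y.presheaf.stalk (f x)) (X.presheaf.stalk x)))
    fun i hi => DAlg.subsingleton_HD_mD _ (by omega)
  have hflat : DRing.TermwiseFlat P := fun i => haveI := hfree i; inferInstance
  have hB : DRing.HasTorAmplitudeIn (Y.presheaf.stalk (f x)) (-(((-m).toNat : ℕ) : ℤ)) 0
      (DAlg.mD (ModuleCat.of (Y.presheaf.stalk (f x)) (X.presheaf.stalk x))) :=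
    DAlg.TorAmp.of_iso (DAlg.torAmplitude_of_isZero P hP hflat fun M i hi =>
      DAlg.isZero_of_torAmplitude P hP hflat (DAlg.TorAmp.of_iso h0 e.symm) M i (Or.inl (by omega))) e
  refine StalkAmp.torAmp_of_iso (DAlg.resQIso (f.stalkMap x).hom (((stk x).mapHomologicalComplex up).obj F) ≪≫
      DerivedCategory.Q.mapIso ?_)
    (DAlg.TorAmp.restrict hB (StalkAmp.torAmp_of_iso (DerivedCategory.Q.mapIso ?_) hF))
  · exact (Functor.mapHomologicalComplexCompIso (Iso.refl (stk x ⋙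
      ModuleCat.restrictScalars (f.stalkMap x).hom)) up).app F
  · exact (Functor.mapHomologicalComplexCompIso (Iso.refl (stk x ⋙
        ModuleCat.restrictScalars ((𝟙 X : X ⟶ X).stalkMap x).hom)) up).symm.app F ≪≫
      (NatIso.mapHomologicalComplex (ModuleCat.restrictScalarsId' ((𝟙 X : X ⟶ X).stalkMap x).hom
        (congrArg CommRingCat.Hom.hom (Scheme.Hom.stalkMap_id X x))) up).app _ ≪≫
      (Functor.mapHomologicalComplexIdIso (ModuleCat.{u} (X.presheaf.stalk x)) up).app _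

/-- composition with a morphism locally of finite tor dimension -/
theorem locAmp_comp_id (f : X ⟶ Y) (hf : DerSch.LocFiniteTorDim f) {E : DCoh.D X}
    (hE : LocAmp (𝟙 X) E) : LocAmp f E := fun x => by
  obtain ⟨U, m, n, hxU, hU⟩ := hf x
  obtain ⟨V, a, b, hxV, hV⟩ := hE x
  exact ⟨U ⊓ V, _, b, ⟨hxU, hxV⟩, fun z hz => ampAt_comp_id f z (hU z hz.1) (hV z hz.2)⟩

/-- relative tor amplitude is locally finite for derived direct images (no global bound) -/
theorem locAmp_Rpush' (p : X ⟶ S) (q : Y ⟶ S) (f : X ⟶ Y) (w : f ≫ q = p) [QuasiCompact f]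
    [QuasiSeparated f] [DCoh.HasRpush f] (E : DCoh.D X) (hqc : DCoh.IsQCohD E)
    (hE : LocAmp p E) : LocAmp q ((DCoh.Rpush f).obj E) := fun y => by
  obtain ⟨W, hW, hyW, -⟩ := exists_isAffineOpen_mem_and_subset (show q y ∈ (⊤ : S.Opens) from trivial)
  obtain ⟨Y', hY, hyY, hYW⟩ := exists_isAffineOpen_mem_and_subset (show y ∈ q ⁻¹ᵁ W from hyW)
  haveI : IsAffine (Y' : Scheme.{u}) := hY
  haveI : DCoh.HasRpush (f ∣_ Y') := Groth.Misc4.PushRestrict.hasRightDerived _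
  choose V a b hV hVx using hE
  obtain ⟨t, ht⟩ := (f.isCompact_preimage hY.isCompact).elim_finite_subcover
    (fun x => (V x : Set X)) (fun x => (V x).2) fun x _ => Set.mem_iUnion.2 ⟨x, hV x⟩
  obtain ⟨A, hA⟩ : ∃ A : ℤ, ∀ x ∈ t, A ≤ a x := ⟨-((t.sup fun x => (-a x).toNat : ℕ) : ℤ), fun x hx => by
    have := Finset.le_sup (f := fun x => (-a x).toNat) hx
    omega⟩
  obtain ⟨B, hB⟩ : ∃ B : ℤ, ∀ x ∈ t, b x ≤ B := ⟨(t.sup fun x => (b x).toNat : ℕ), fun x hx => by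
    have := Finset.le_sup (f := fun x => (b x).toNat) hx
    omega⟩
  obtain ⟨N, -, hN⟩ := Groth.Misc4.QCohCd.exists_isZero_HD (f ∣_ Y')
  let E' := (Rd (f ⁻¹ᵁ Y').ι).obj E
  have hxA : ∀ x ∈ f ⁻¹ᵁ Y', AmpAt p A B E x := fun x hx => by
    obtain ⟨i, hi, hxi⟩ : ∃ i ∈ t, x ∈ V i := by simpa using ht hx
    exact (hVx i x hxi).mono (hA i hi) (hB i hi)
  haveI : E'.IsLE B := (DerivedCategory.isLE_iff _ _).2 fun i hi => by
    obtain ⟨F, ⟨eF⟩⟩ := Groth.KTheory.Perf.exists_rep E'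
    exact KFlat.isZero_hd_of_iso eF.symm ((KFlat.isZero_hd_toD_iff F i).2
      (exactAt_of_ampAt F (f := (f ⁻¹ᵁ Y').ι ≫ p) (a := A) (.inr hi) fun x =>
        ((ampAt_rd_iff (f ⁻¹ᵁ Y').ι x p E A B).2 (hxA x.1 x.2)).of_iso eF.symm))
  haveI : ((DCoh.Rpush (f ∣_ Y')).obj E').IsLE (B + N) := (DerivedCategory.isLE_iff _ _).2 fun i hi =>
    hN E' (Groth.Misc4.QCohDPerf.isQCohD_restrict _ hqc) B inferInstance i hi
  exact ⟨Y', A, B + N, hyY, fun z hz => ampAt_Rpush_local p q f w E hqc hW Y' hYW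
    (b := B) hxA (B + N) hz⟩

/-- relative tor amplitude is locally finite for derived direct images -/
theorem locAmp_Rpush (p : X ⟶ S) (q : Y ⟶ S) (f : X ⟶ Y) (w : f ≫ q = p) [QuasiCompact f]
    [QuasiSeparated f] [DCoh.HasRpush f] (E : DCoh.D X) (hqc : DCoh.IsQCohD E) (d : ℤ) [E.IsLE d]
    (hE : LocAmp p E) : LocAmp q ((DCoh.Rpush f).obj E) :=
  have _hd : E.IsLE d := inferInstance
  locAmp_Rpush' p q f w E hqc hE

end Groth.DerivedCoh.RelAmp
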