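import Groth.Agent.DerivedCoh.StalkAmp.Basic
import Groth.Agent.Misc13.TorDimFactor
import Groth.Agent.DAlg.TorAmpRestrict

/-!
Tor amplitude relative to a morphism: invariance and composition.
-/

universe u

open CategoryTheory CategoryTheory.Limits AlgebraicGeometry HomologicalComplex

attribute [local instance] HasDerivedCategory.standard
set_option linter.style.haveILetI false

namespace Groth.DerivedCoh.RelAmp

variable {X Y Z : Scheme.{u}}

local notation "up" => ComplexShape.up ℤ

instance stalkOverPresFiniteLimits (f : X ⟶ Y) (x : X) : PreservesFiniteLimits (DerSch.stalkOver f x) :=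
  inferInstanceAs (PreservesFiniteLimits (KFlat.stk x ⋙ ModuleCat.restrictScalars (f.stalkMap x).hom))

instance stalkOverPresFiniteColimits (f : X ⟶ Y) (x : X) : PreservesFiniteColimits (DerSch.stalkOver f x) :=
  inferInstanceAs (PreservesFiniteColimits (KFlat.stk x ⋙ ModuleCat.restrictScalars (f.stalkMap x).hom))

/-- the complex of stalks over the base, from an isomorphism in `D(O_X)` -/
noncomputable def stalkOverQIso (f : X ⟶ Y) (x : X) {F F' : CochainComplex X.Modules ℤ}
    (e : DCoh.toD X F ≅ DCoh.toD X F') :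
    DRing.toD ((DerSch.stalkCxOver f x).obj F) ≅ DRing.toD ((DerSch.stalkCxOver f x).obj F') :=
  ((DerSch.stalkOver f x).mapDerivedCategoryFactors.app F).symm ≪≫
    (DerSch.stalkOver f x).mapDerivedCategory.mapIso e ≪≫
    (DerSch.stalkOver f x).mapDerivedCategoryFactors.app F'

theorem hasTorAmplitudeAt_of_iso (f : X ⟶ Y) (x : X) {a b : ℤ} {F F' : CochainComplex X.Modules ℤ}
    (e : DCoh.toD X F ≅ DCoh.toD X F') (h : DerSch.HasTorAmplitudeAt f a b F x) :
    DerSch.HasTorAmplitudeAt f a b F' x :=
  StalkAmp.torAmp_of_iso (stalkOverQIso f x e) h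

/-- tor amplitude of all representatives, from one representative -/
theorem hasTorAmplitudeD_of_rep (f : X ⟶ Y) {a b : ℤ} {K : DCoh.D X} (C : CochainComplex X.Modules ℤ)
    (e : DCoh.toD X C ≅ K) (h : DerSch.HasTorAmplitude f a b C) :
    DerSch.HasTorAmplitudeD f a b K := fun _ ⟨e'⟩ x =>
  hasTorAmplitudeAt_of_iso f x (e ≪≫ e'.symm) (h x)

/-- the complex of stalks over the base, relative to a composite -/
noncomputable def stalkCompIso (f : X ⟶ Y) (g : Y ⟶ Z) (x : X) (F : CochainComplex X.Modules ℤ) :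
    (DerSch.stalkCxOver (f ≫ g) x).obj F ≅
      (DRing.restrictCx (g.stalkMap (f x)).hom).obj ((DerSch.stalkCxOver f x).obj F) :=
  (NatIso.mapHomologicalComplex
      (Functor.isoWhiskerLeft (DerSch.stalkFunctor X x)
        (ModuleCat.restrictScalarsComp'.{u} (g.stalkMap (f x)).hom (f.stalkMap x).hom
          ((f ≫ g).stalkMap x).hom (congrArg CommRingCat.Hom.hom (Scheme.Hom.stalkMap_comp f g x))) ≪≫
        (Functor.associator _ _ _).symm) up).app F ≪≫
    (Functor.mapHomologicalComplexCompIso (Iso.refl (DerSch.stalkOver f x ⋙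
      ModuleCat.restrictScalars (g.stalkMap (f x)).hom)) up).symm.app F

/-- composition with a morphism of finite tor dimension -/
theorem hasTorAmplitude_comp (f : X ⟶ Y) (g : Y ⟶ Z) (n : ℕ) (hg : DerSch.HasTorDimLE g n)
    (F : CochainComplex X.Modules ℤ) (a b : ℤ) (hF : DerSch.HasTorAmplitude f a b F) :
    DerSch.HasTorAmplitude (f ≫ g) (a - n) b F := by
  intro x
  let := (g.stalkMap (f x)).hom.toAlgebra
  have hB := (Groth.Misc13.TorDimFactor.hasTorAmplitudeAt_unit_iff g (f x) _ _).1 (hg (f x))
  exact StalkAmp.torAmp_of_iso ((DAlg.resQIso _ _) ≪≫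
      DerivedCategory.Q.mapIso (stalkCompIso f g x F).symm)
    (DAlg.TorAmp.restrict hB (hF x))

end Groth.DerivedCoh.RelAmp
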