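import Groth.Agent.DerivedCoh.RelAmp.Basic
import Groth.Agent.DAlg.TorAmpRestrict

/-!
Relative tor amplitude and open immersions.
-/

universe u

open CategoryTheory CategoryTheory.Limits AlgebraicGeometry HomologicalComplex

attribute [local instance] HasDerivedCategory.standard
set_option linter.style.haveILetI false

namespace Groth.DerivedCoh.RelAmp

open KFlat (stk)

variable {X Y Z U : Scheme.{u}}

local notation "up" => ComplexShape.up ℤ

/-- the stalks of a restriction to an open subscheme, over the local ring of the ambient scheme -/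
noncomputable def stkResInvIso (j : U ⟶ X) [IsOpenImmersion j] (v : U) :
    Scheme.Modules.restrictFunctor j ⋙ DerSch.stalkOver j v ≅ stk (j v) :=
  let e := (asIso (j.stalkMap v)).commRingCatIsoToRingEquiv
  Functor.isoWhiskerLeft _ (Functor.isoWhiskerLeft (stk v)
      (Adjunction.leftAdjointUniq (ModuleCat.restrictScalarsEquivalenceOfRingEquiv e).toAdjunction
        (ModuleCat.extendRestrictScalarsAdj.{u} (StalkAmp.stalkInv j v)))) ≪≫
    StalkAmp.stkRestrictIso j v

/-- restriction to an open subscheme of the source -/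
theorem hasTorAmplitude_restrict (j : U ⟶ X) [IsOpenImmersion j] (f : X ⟶ Y) {a b : ℤ}
    (F : CochainComplex X.Modules ℤ) (hF : DerSch.HasTorAmplitude f a b F) :
    DerSch.HasTorAmplitude (j ≫ f) a b
      (((Scheme.Modules.restrictFunctor j).mapHomologicalComplex up).obj F) := fun v =>
  StalkAmp.torAmp_of_iso (DerivedCategory.Q.mapIso
      ((DRing.restrictCx (f.stalkMap (j v)).hom).mapIso
          ((Functor.mapHomologicalComplexCompIso (stkResInvIso j v) up).app F).symm ≪≫
        (stalkCompIso j f v _).symm))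
    (StalkAmp.torAmp_of_iso (DerivedCategory.Q.mapIso
      ((Functor.mapHomologicalComplexCompIso (Iso.refl (stk (j v) ⋙
        ModuleCat.restrictScalars (f.stalkMap (j v)).hom)) up).symm.app F)) (hF (j v)))

/-- an open immersion at the target does not change the tor amplitude -/
theorem hasTorAmplitude_of_comp (f : X ⟶ Y) (j : Y ⟶ Z) [IsOpenImmersion j] {a b : ℤ}
    (F : CochainComplex X.Modules ℤ) (hF : DerSch.HasTorAmplitude (f ≫ j) a b F) :
    DerSch.HasTorAmplitude f a b F := by
  intro x
  let χ := StalkAmp.stalkInv j (f x)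
  let := χ.toAlgebra
  haveI : Module.Flat (Y.presheaf.stalk (f x)) (Z.presheaf.stalk (j (f x))) :=
    RingHom.Flat.of_bijective (ConcreteCategory.bijective_of_isIso (inv (j.stalkMap (f x))))
  have hB : DRing.HasTorAmplitudeIn (Y.presheaf.stalk (f x)) (-((0 : ℕ) : ℤ)) 0
      (DAlg.mD (ModuleCat.of (Y.presheaf.stalk (f x)) (Z.presheaf.stalk (j (f x))))) := by
    simpa using DAlg.torAmp_mD_of_flat (ModuleCat.of (Y.presheaf.stalk (f x)) (Z.presheaf.stalk (j (f x))))
  have h := DAlg.TorAmp.restrict hB
    (StalkAmp.torAmp_of_iso (DerivedCategory.Q.mapIso (stalkCompIso f j x F)) (hF x))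
  rw [Nat.cast_zero, sub_zero] at h
  refine StalkAmp.torAmp_of_iso (DAlg.resQIso _ _ ≪≫ DerivedCategory.Q.mapIso ?_) h
  exact (Functor.mapHomologicalComplexCompIso (ModuleCat.restrictScalarsComp'.{u} χ (j.stalkMap (f x)).hom
      (RingHom.id _) (by rw [← CommRingCat.hom_comp, IsIso.inv_hom_id]; rfl)).symm up).app _ ≪≫
    (NatIso.mapHomologicalComplex (ModuleCat.restrictScalarsId _) up).app _ ≪≫
    (Functor.mapHomologicalComplexIdIso _ up).app _

end Groth.DerivedCoh.RelAmp
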