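import Groth.Agent.DerivedCoh.RelAmp.Tensor
import Groth.Agent.DerivedCoh.RelAmp.Restrict

/-!
Vanishing of `Lf^*M ⊗^L F` outside the relative tor amplitude of `F`.
-/

universe u

open CategoryTheory CategoryTheory.Limits AlgebraicGeometry HomologicalComplex MonoidalCategory

attribute [local instance] HasDerivedCategory.standard
set_option linter.style.haveILetI false

namespace Groth.DerivedCoh.RelAmp

open KFlat (tot totL totR stk pullCx IsKFlat)
open Groth.DAlg (extCx)

variable {X Y : Scheme.{u}}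

local notation "up" => ComplexShape.up ℤ

section Algebra

open Groth.DAlg Groth.DAlg.KFlatMod

variable {A : Type u} [CommRing A]

/-- the tensor product with a K-flat resolution of a module vanishes outside the tor amplitude -/
theorem exactAt_tot_of_torAmp (M : DRing.Cx A) {m n : ℤ} (hM : DRing.HasTorAmplitudeIn A m n (DRing.toD M))
    (W : DRing.Cx A) (hW : IsKFlatCx A W) (N : ModuleCat.{u} A)
    (w : W ⟶ (single (ModuleCat.{u} A) up 0).obj N) [QuasiIso w] {i : ℤ} (hi : i < m ∨ n < i) :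
    (tot (KFlatMod.T A) M W).ExactAt i := by
  obtain ⟨E, hE, hEf, ⟨e⟩⟩ := hM
  have hEk : IsKFlatCx A E := isKFlatCx_of_flat E (fun j hj => hE j (Or.inr hj)) hEf
  let π := (resAug A).app M
  haveI : QuasiIso π := resAug_quasiIso M
  haveI hL : ∀ L : DRing.Cx A, IsKFlatCx A L → DRing.HasLTensorCx A L := fun L hL => by
    haveI := (DRing.tensorCxQ A L).hasPointwiseLeftDerivedFunctor_of_inverts
      (W := HomologicalComplex.quasiIso (ModuleCat.{u} A) up) (fun X Y f hf => by
        haveI : QuasiIso f := (HomologicalComplex.mem_quasiIso_iff f).1 hf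
        exact (DerivedCategory.isIso_Q_map_iff_quasiIso _ _).2 ((isKFlatCx_iff.1 hL).quasiIso_totL f))
    exact Functor.hasLeftDerivedFunctor_of_hasPointwiseLeftDerivedFunctor _ _
  haveI := hL W hW
  have hQ : IsIso (DerivedCategory.Q.map ((totL (KFlatMod.T A) W).map π)) :=
    (DerivedCategory.isIso_Q_map_iff_quasiIso _ _).2 ((isKFlatCx_iff.1 hW).quasiIso_totL π)
  let e₁ : DRing.toD (tot (KFlatMod.T A) M W) ≅ DRing.toD (tot (KFlatMod.T A) E W) :=
    (@asIso _ _ _ _ (DerivedCategory.Q.map ((totL (KFlatMod.T A) W).map π)) hQ).symm ≪≫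
      (lTensorCxIso W _ (res_isKFlat M)).symm ≪≫
      (DRing.LTensorCx A W).mapIso (asIso (DerivedCategory.Q.map π) ≪≫ e.symm) ≪≫ lTensorCxIso W E hEk
  have hQ' : IsIso (DerivedCategory.Q.map ((totR (KFlatMod.T A) E).map w)) :=
    (DerivedCategory.isIso_Q_map_iff_quasiIso _ _).2
      (KFlat.quasiIso_totR (KFlatMod.T A) (isKFlat_flip (isKFlatCx_iff.1 hEk)) w)
  let e₂ : DRing.toD (tot (KFlatMod.T A) E W) ≅
      DRing.toD ((((KFlatMod.T A).obj N).mapHomologicalComplex up).obj E) :=
    @asIso _ _ _ _ (DerivedCategory.Q.map ((totR (KFlatMod.T A) E).map w)) hQ' ≪≫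
      DerivedCategory.Q.mapIso (brT _ _ ≪≫ KFlat.totSingleIso (KFlatMod.T A) N E)
  rw [exactAt_iff_isZero_homology]
  refine ((HomologicalComplex.ExactAt.of_isZero ?_).isZero_homology).of_iso
    (((DerivedCategory.homologyFunctorFactors _ i).app _).symm ≪≫
      (DerivedCategory.homologyFunctor _ i).mapIso (e₁ ≪≫ e₂) ≪≫
        (DerivedCategory.homologyFunctorFactors _ i).app _)
  exact ((KFlatMod.T A).obj N).map_isZero (hE i hi)

end Algebra

/-- `Lf^*M ⊗^L F` has no cohomology outside the tor amplitude of `F` -/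
theorem isZero_HD_ltensor_Lpull (f : X ⟶ Y) (F : CochainComplex X.Modules ℤ) {m n : ℤ}
    (hF : DerSch.HasTorAmplitude f m n F) (M : Y.Modules) [DCoh.HasLpull f] [DCoh.HasLTensorCx F]
    {i : ℤ} (hi : i < m ∨ n < i) :
    IsZero (DCoh.HD ((DCoh.LTensorCx F).obj ((DCoh.Lpull f).obj (DCoh.inD Y M))) i) := by
  let G := (single Y.Modules up 0).obj M
  let P := (KFlat.flatResolution Y).obj G
  have hP : IsKFlat (KFlat.T Y) P := KFlat.flatResolution_isKFlat G
  have := KFlat.isIso_ltcxCounit_app F _ (isKFlat_flip_of_isKFlat (KFlat.isKFlat_pullCx f _ hP))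
  refine KFlat.isZero_hd_of_iso ((DCoh.LTensorCx F).mapIso
    ((DCoh.Lpull f).mapIso ((DerivedCategory.singleFunctorIsoCompQ _ 0).app M) ≪≫ lpullResIso f G) ≪≫
    asIso ((KFlat.ltcxCounit F).app _)) ?_
  refine (KFlat.isZero_hd_toD_iff _ i).2 ?_
  refine StalkAmp.exactAt_of_stalk _ i fun x => ?_
  refine ExactAt.of_iso ?_ (brT _ _ ≪≫ (tensorRight _).mapIso (pullCxStkIso f x P).symm ≪≫
    (KFlat.stkTotIso x ((pullCx f).obj P) F).symm)
  rw [← DAlg.exactAt_restrictCx_iff (f.stalkMap x).hom]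
  refine ExactAt.of_iso ?_ (DAlg.resTotIso _ _ _).symm
  haveI := KFlat.flatResolution_quasiIso G
  let w := ((stk (f x)).mapHomologicalComplex up).map ((KFlat.flatResolutionAug Y).app G) ≫
    ((singleMapHomologicalComplex (stk (f x)) up 0).app M).hom
  haveI : QuasiIso w := by dsimp only [w]; infer_instance
  exact exactAt_tot_of_torAmp _ (hF x) _
    ((KFlat.isKFlat_iff_stalk P).1 ((KFlat.isKFlat_iff P).2 hP) (f x)) ((stk (f x)).obj M) w hi

end Groth.DerivedCoh.RelAmp
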