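import Groth.Agent.DerivedCoh.RelAmp.External
import Groth.Agent.DerivedCoh.RelAmp.Vanish

/-!
Cohomological amplitude of external tensor products over a base.
-/

universe u

open CategoryTheory CategoryTheory.Limits AlgebraicGeometry HomologicalComplex MonoidalCategory

attribute [local instance] HasDerivedCategory.standard
set_option linter.style.haveILetI false

namespace Groth.DerivedCoh.RelAmp

open KFlat (tot totL totR stk pullCx IsKFlat)
open Groth.DAlg (extCx)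

local notation "up" => ComplexShape.up ℤ

/-- the degrees of a total complex of bounded complexes -/
theorem isZero_tot_X {A : Type u} [CommRing A] (E W : DRing.Cx A) {a b c d : ℤ}
    (hE : DRing.VanishesOutside E a b) (hW : DRing.VanishesOutside W c d) {i : ℤ} (hi : i < a + c ∨ b + d < i) :
    IsZero ((tot (DAlg.KFlatMod.T A) E W).X i) := by
  rw [IsZero.iff_id_eq_zero]
  refine HomologicalComplex₂.total.hom_ext _ fun p q hpq => ?_
  refine IsZero.eq_of_src ?_ _ _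
  change IsZero (((DAlg.KFlatMod.T A).obj (E.X p)).obj (W.X q))
  change p + q = i at hpq
  by_cases hp : p < a ∨ b < p
  · exact ((DAlg.KFlatMod.T A).flip.obj (W.X q)).map_isZero (hE p hp)
  · exact ((DAlg.KFlatMod.T A).obj (E.X p)).map_isZero (hW q (by omega))

/-- the tensor product of a complex of finite tor amplitude with a K-flat complex of bounded cohomology -/
theorem exactAt_tot_of_torAmp_of_exact {A : Type u} [CommRing A] (M : DRing.Cx A) {a b : ℤ}
    (hM : DRing.HasTorAmplitudeIn A a b (DRing.toD M)) (W : DRing.Cx A) (hW : DAlg.KFlatMod.IsKFlatCx A W)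
    {c d : ℤ} [W.IsGE c] [W.IsLE d] {i : ℤ} (hi : i < a + c ∨ b + d < i) :
    (tot (DAlg.KFlatMod.T A) M W).ExactAt i := by
  obtain ⟨E, hE, hEf, ⟨e⟩⟩ := hM
  have hEk := DAlg.KFlatMod.isKFlatCx_of_flat E (fun j hj => hE j (Or.inr hj)) hEf
  let π := (DAlg.KFlatMod.resAug A).app M
  haveI : QuasiIso π := DAlg.KFlatMod.resAug_quasiIso M
  haveI : DRing.HasLTensorCx A W := by
    haveI := (DRing.tensorCxQ A W).hasPointwiseLeftDerivedFunctor_of_inverts
      (W := HomologicalComplex.quasiIso (ModuleCat.{u} A) up) (fun X Y f hf => by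
        haveI : QuasiIso f := (HomologicalComplex.mem_quasiIso_iff f).1 hf
        exact (DerivedCategory.isIso_Q_map_iff_quasiIso _ _).2
          ((DAlg.KFlatMod.isKFlatCx_iff.1 hW).quasiIso_totL f))
    exact Functor.hasLeftDerivedFunctor_of_hasPointwiseLeftDerivedFunctor _ _
  have hQ : IsIso (DerivedCategory.Q.map ((totL (DAlg.KFlatMod.T A) W).map π)) :=
    (DerivedCategory.isIso_Q_map_iff_quasiIso _ _).2 ((DAlg.KFlatMod.isKFlatCx_iff.1 hW).quasiIso_totL π)
  let e₁ : DRing.toD (tot (DAlg.KFlatMod.T A) M W) ≅ DRing.toD (tot (DAlg.KFlatMod.T A) E W) :=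
    (@asIso _ _ _ _ (DerivedCategory.Q.map ((totL (DAlg.KFlatMod.T A) W).map π)) hQ).symm ≪≫
      (DAlg.lTensorCxIso W _ (DAlg.KFlatMod.res_isKFlat M)).symm ≪≫
      (DRing.LTensorCx A W).mapIso (asIso (DerivedCategory.Q.map π) ≪≫ e.symm) ≪≫ DAlg.lTensorCxIso W E hEk
  have hflip := DAlg.KFlatMod.isKFlat_flip (DAlg.KFlatMod.isKFlatCx_iff.1 hEk)
  let W₁ := W.truncLE d
  let W₂ := W₁.truncGE c
  haveI : QuasiIso (W.ιTruncLE d) := inferInstance
  haveI : W₁.IsGE c := by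
    rw [CochainComplex.isGE_iff]
    intro j hj
    exact (quasiIsoAt_iff_exactAt' (W.ιTruncLE d) j ((CochainComplex.isGE_iff W c).1 inferInstance j hj)).1
      inferInstance
  have h₁ : IsIso (DerivedCategory.Q.map ((totR (DAlg.KFlatMod.T A) E).map (W.ιTruncLE d))) :=
    (DerivedCategory.isIso_Q_map_iff_quasiIso _ _).2 (KFlat.quasiIso_totR _ hflip _)
  have h₂ : IsIso (DerivedCategory.Q.map ((totR (DAlg.KFlatMod.T A) E).map (W₁.πTruncGE c))) :=
    (DerivedCategory.isIso_Q_map_iff_quasiIso _ _).2 (KFlat.quasiIso_totR _ hflip _)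
  let e₂ : DRing.toD (tot (DAlg.KFlatMod.T A) E W) ≅ DRing.toD (tot (DAlg.KFlatMod.T A) E W₂) :=
    (@asIso _ _ _ _ (DerivedCategory.Q.map ((totR (DAlg.KFlatMod.T A) E).map (W.ιTruncLE d))) h₁).symm ≪≫
      @asIso _ _ _ _ (DerivedCategory.Q.map ((totR (DAlg.KFlatMod.T A) E).map (W₁.πTruncGE c))) h₂
  rw [exactAt_iff_isZero_homology]
  refine ((HomologicalComplex.ExactAt.of_isZero ?_).isZero_homology).of_iso
    (((DerivedCategory.homologyFunctorFactors _ i).app _).symm ≪≫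
      (DerivedCategory.homologyFunctor _ i).mapIso (e₁ ≪≫ e₂) ≪≫
        (DerivedCategory.homologyFunctorFactors _ i).app _)
  refine isZero_tot_X E W₂ hE (fun j hj => ?_) hi
  rcases hj with hj | hj
  · exact W₂.isZero_of_isStrictlyGE c j hj
  · exact W₂.isZero_of_isStrictlyLE d j hj

variable {S X₁ Y₁ X₂ Y₂ X Y : Scheme.{u}}

/-- inverse image of a complex with bounded cohomology by a flat morphism -/
theorem exactAt_stk_pullCx_res (m : X ⟶ X₂) [Flat m] (E : CochainComplex X₂.Modules ℤ) (z : X) {i : ℤ}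
    (hE : E.ExactAt i) :
    (((stk z).mapHomologicalComplex up).obj ((pullCx m).obj ((KFlat.flatResolution X₂).obj E))).ExactAt i := by
  haveI : PreservesFiniteLimits (ModuleCat.extendScalars.{u, u, u} (m.stalkMap z).hom) :=
    ModuleCat.preservesFiniteLimits_extendScalars_of_flat (Flat.stalkMap m z)
  haveI : PreservesFiniteColimits (ModuleCat.extendScalars.{u, u, u} (m.stalkMap z).hom) :=
    have := (ModuleCat.extendRestrictScalarsAdj.{u, u, u} (m.stalkMap z).hom).leftAdjoint_preservesColimits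
    inferInstance
  haveI := KFlat.flatResolution_quasiIso E
  have h1 : ((KFlat.flatResolution X₂).obj E).ExactAt i :=
    (quasiIsoAt_iff_exactAt' ((KFlat.flatResolutionAug X₂).app E) i hE).1 inferInstance
  have h2 : (((stk (m z)).mapHomologicalComplex up).obj ((KFlat.flatResolution X₂).obj E)).ExactAt i :=
    h1.map (stk (m z))
  have h3 : (extCx (m.stalkMap z).hom
      (((stk (m z)).mapHomologicalComplex up).obj ((KFlat.flatResolution X₂).obj E))).ExactAt i :=
    h2.map (ModuleCat.extendScalars.{u, u, u} (m.stalkMap z).hom)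
  exact h3.of_iso (pullCxStkIso m z _).symm

/-- cohomological amplitude of an external tensor product -/
theorem exactAt_external (f₁ : X₁ ⟶ Y₁) (q₁ : Y₁ ⟶ S) (f₂ : X₂ ⟶ Y₂) (q₂ : Y₂ ⟶ S)
    [Flat q₁] [Flat (f₁ ≫ q₁)]
    (pX₁ : X ⟶ X₁) (pX₂ : X ⟶ X₂) (hX : IsPullback pX₁ pX₂ (f₁ ≫ q₁) (f₂ ≫ q₂))
    (pY₁ : Y ⟶ Y₁) (pY₂ : Y ⟶ Y₂) (hY : IsPullback pY₁ pY₂ q₁ q₂)
    (f : X ⟶ Y) (hf₁ : f ≫ pY₁ = pX₁ ≫ f₁) (hf₂ : f ≫ pY₂ = pX₂ ≫ f₂)
    (E₁ : CochainComplex X₁.Modules ℤ) (a₁ b₁ : ℤ) (h₁ : DerSch.HasTorAmplitude f₁ a₁ b₁ E₁)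
    (E₂ : CochainComplex X₂.Modules ℤ) (a₂ b₂ : ℤ) (hE₂ : ∀ i, i < a₂ ∨ b₂ < i → E₂.ExactAt i)
    {i : ℤ} (hi : i < a₁ + a₂ ∨ b₁ + b₂ < i) :
    (tot (KFlat.T X) ((pullCx pX₁).obj ((KFlat.flatResolution X₁).obj E₁))
      ((pullCx pX₂).obj ((KFlat.flatResolution X₂).obj E₂))).ExactAt i := by
  obtain ⟨F⟩ := nonempty_factor f₂ q₂ f₁ q₁ pX₂ pX₁ hX.flip pY₂ pY₁ hY.flip f hf₂ hf₁
  haveI : Flat F.m₁ := MorphismProperty.of_isPullback F.base inferInstance
  let C₁ := (pullCx pX₁).obj ((KFlat.flatResolution X₁).obj E₁)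
  let G := (pullCx F.m₁).obj ((KFlat.flatResolution X₂).obj E₂)
  have hC : DerSch.HasTorAmplitude F.u a₁ b₁ C₁ :=
    hasTorAmplitude_pullCx_torIndep F.snd q₁ (f₂ ≫ q₂) F.m₁ F.base _ (KFlat.flatResolution_isKFlat E₁)
      (hasTorAmplitude_res f₁ h₁)
  refine StalkAmp.exactAt_of_stalk _ i fun x => ?_
  let c : (pullCx F.u).obj G ≅ (pullCx pX₂).obj ((KFlat.flatResolution X₂).obj E₂) :=
    (KFlat.pullCxComp F.u F.m₁).app _ ≪≫
      eqToIso (congrArg (fun p => (pullCx p).obj ((KFlat.flatResolution X₂).obj E₂)) F.u_m₁)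
  refine ExactAt.of_iso ?_ ((tensorLeft _).mapIso (((stk x).mapHomologicalComplex up).mapIso c) ≪≫
    (KFlat.stkTotIso x C₁ ((pullCx pX₂).obj ((KFlat.flatResolution X₂).obj E₂))).symm)
  refine ExactAt.of_iso ?_ ((tensorLeft _).mapIso (pullCxStkIso F.u x G).symm)
  rw [← DAlg.exactAt_restrictCx_iff (F.u.stalkMap x).hom]
  refine ExactAt.of_iso ?_ (DAlg.resTotIso _ _ _).symm
  haveI : ((StalkAmp.stkCx (F.u x)).obj G).IsGE a₂ := (CochainComplex.isGE_iff _ _).2 fun j hj =>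
    exactAt_stk_pullCx_res F.m₁ E₂ (F.u x) (hE₂ j (Or.inl hj))
  haveI : ((StalkAmp.stkCx (F.u x)).obj G).IsLE b₂ := (CochainComplex.isLE_iff _ _).2 fun j hj =>
    exactAt_stk_pullCx_res F.m₁ E₂ (F.u x) (hE₂ j (Or.inr hj))
  exact exactAt_tot_of_torAmp_of_exact _ (hC x) _
    ((KFlat.isKFlat_iff_stalk G).1 ((KFlat.isKFlat_iff G).2
      (KFlat.isKFlat_pullCx _ _ (KFlat.flatResolution_isKFlat E₂))) (F.u x)) hi

/-- tensoring with a flip K-flat complex, on the derived category -/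
theorem nonempty_totR_iso (C : CochainComplex X.Modules ℤ) (hC : IsKFlat (KFlat.T X).flip C)
    {K K' : CochainComplex X.Modules ℤ} (e : DCoh.toD X K ≅ DCoh.toD X K') :
    Nonempty (DCoh.toD X (tot (KFlat.T X) C K) ≅ DCoh.toD X (tot (KFlat.T X) C K')) := by
  let G := totR (KFlat.T X) C ⋙ DerivedCategory.Q
  have hG : (HomologicalComplex.quasiIso X.Modules up).IsInvertedBy G := fun K L w hw => by
    haveI : QuasiIso w := (HomologicalComplex.mem_quasiIso_iff w).1 hw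
    exact (DerivedCategory.isIso_Q_map_iff_quasiIso _ _).2 (KFlat.quasiIso_totR (KFlat.T X) hC w)
  let L := Localization.lift G hG DerivedCategory.Q
  exact ⟨((Localization.fac G hG DerivedCategory.Q).app K).symm ≪≫ L.mapIso e ≪≫
    (Localization.fac G hG DerivedCategory.Q).app K'⟩

end Groth.DerivedCoh.RelAmp
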