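import Groth.Agent.DAlg.RelPerfectFibre
import Groth.Agent.DAlg.RelPerfectBC
import Groth.Agent.DAlg.RelPCTorIndep
import Groth.Agent.Ega4Algebra1.RegularLocal

/-!
Tor amplitude from fibres of finite global dimension.
-/

universe u

open CategoryTheory CategoryTheory.Limits HomologicalComplex
open scoped TensorProduct

attribute [local instance] HasDerivedCategory.standard
set_option linter.style.haveILetI false

namespace Groth.DerivedCoh.RelAmp

open Groth.DAlg FlatCxBase

/-- a residue field seen through an algebra of finite global tor dimension -/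
theorem retraction_of_fibreRing {T S κ : Type u} [CommRing T] [CommRing S] [CommRing κ] [Algebra T S]
    [Algebra S κ] [Algebra T κ] [IsScalarTower T S κ] (m : Ideal T) (hk : RingHom.ker (algebraMap T κ) = m)
    (hs : Function.Surjective (algebraMap T κ)) (hκ : IsField κ)
    (F : DRing.Cx T) {N : ℤ} (hN : DRing.VanishesAbove F N) (hF : DRing.TermwiseFiniteProjective F) (d : ℕ)
    (hd : ∀ M : ModuleCat.{u} S, DRing.HasTorAmplitudeIn S (-(d : ℤ)) 0 (mD M)) (a b : ℤ)
    (h : ∀ i, (i < a ∨ b < i) → IsZero ((extCx (algebraMap T S) F).homology i)) {j : ℤ}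
    (hj : j < a - d ∨ b < j) :
    ∃ r : F.X (j + 1) →ₗ[T] Coker F (j - 1) j,
      ∀ x, x - r (dBar F (j - 1) j (j + 1) x) ∈ m • (⊤ : Submodule T (Coker F (j - 1) j)) := by
  letI : Field κ := hκ.toField
  have hS := torAmp_of_bounded_homology d hd (DRing.toD (extCx (algebraMap T S) F)) a b
    fun i hi => subsingleton_HD_toD (h i hi)
  have hSb : DRing.VanishesAbove (extCx (algebraMap T S) F) N := fun i hi =>
    (ModuleCat.extendScalars _).map_isZero (hN i hi)
  haveI : Module.Projective T (F.X (j + 1)) := (hF (j + 1)).2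
  obtain ⟨r, hr⟩ := exists_retraction_mod (S := κ) F (i := j - 1) hs (by omega) (rfl : j + 1 = j + 1)
    ((isZero_extCx_iff F j).2 ((isZero_extCx_tensor_iff (S := S) F κ j).1
      (isZero_of_torAmplitude _ hSb (termwiseFlat_extCx _ (fun i => haveI := (hF i).2; inferInstance)) hS _ j hj)))
  exact ⟨r, fun x => hk ▸ hr x⟩

/-- tor amplitude from fibre rings of finite global tor dimension -/
theorem torAmp_of_fibreRings {T : Type u} [CommRing T] (F : DRing.Cx T) {N : ℤ} (hN : DRing.VanishesAbove F N)
    (hF : DRing.TermwiseFiniteProjective F) (d : ℕ) (a b : ℤ)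
    (h : ∀ m : Ideal T, m.IsMaximal → ∃ (S : Type u) (_ : CommRing S) (_ : Algebra T S) (φ : S →+* T ⧸ m),
      φ.comp (algebraMap T S) = Ideal.Quotient.mk m ∧
      (∀ M : ModuleCat.{u} S, DRing.HasTorAmplitudeIn S (-(d : ℤ)) 0 (mD M)) ∧
      ∀ i, (i < a ∨ b < i) → IsZero ((extCx (algebraMap T S) F).homology i)) :
    DRing.HasTorAmplitudeIn T (a - d) b (DRing.toD F) := by
  refine torAmp_of_forall_tensor F hN (fun i => haveI := (hF i).2; inferInstance) (Iso.refl _) fun M j hj => ?_
  refine isZero_tensor_of_forall_maximal F hF j (fun m hm => ?_) M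
  obtain ⟨S, _, _, φ, hφ, hd, hz⟩ := h m hm
  letI := φ.toAlgebra
  haveI : IsScalarTower T S (T ⧸ m) := IsScalarTower.of_algebraMap_eq' hφ.symm
  exact retraction_of_fibreRing m Ideal.mk_ker Ideal.Quotient.mk_surjective
    ((Ideal.Quotient.maximal_ideal_iff_isField_quotient m).1 hm) F hN hF d hd a b hz hj

open Ega4Algebra1 in
/-- modules over a regular local ring -/
theorem torAmp_mD_of_regular (S : Type u) [CommRing S] [IsRegularLocalRing S] {d : ℕ}
    (hd : ringKrullDim S = d) (M : ModuleCat.{u} S) :
    DRing.HasTorAmplitudeIn S (-(d : ℤ)) 0 (mD M) := by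
  refine torAmp_of_projectiveDimension d M (pdLT_of_forall_finite d (fun M _ _ _ => ?_) M)
  refine pdLT_of_isRegularLocalRing S d ?_ M
  have h1 := IsRegularLocalRing.spanFinrank_maximalIdeal (R := S)
  rw [hd] at h1
  exact_mod_cast h1

variable {A B A₀ S : Type u} [CommRing A] [CommRing B] [CommRing A₀] [CommRing S] [Algebra A B] [Algebra A A₀]
  [Algebra B S] [Algebra A₀ S] [Algebra A S] [IsScalarTower A A₀ S] [IsScalarTower A B S]

/-- homology of the base change to a fibre, computed over the base -/
theorem isZero_extCx_of_res [Algebra.IsPushout A A₀ B S] (F : DRing.Cx B) {i : ℤ}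
    (h : IsZero ((extCx (algebraMap A A₀) ((DRing.restrictCx (algebraMap A B)).obj F)).homology i)) :
    IsZero ((extCx (algebraMap B S) F).homology i) := by
  have h3 := h.of_iso ((homologyFunctor _ _ i).mapIso (resExtCxIso (R := A) (A := B) (R' := A₀) (A' := S) F)).symm
  exact (isZero_homology_iff_of_addEquiv
    (F := (DRing.restrictCx (algebraMap A₀ S)).obj (extCx (algebraMap B S) F)) (G := extCx (algebraMap B S) F)
    (fun j => AddEquiv.refl _) (fun j k x => rfl) i).1 h3

end Groth.DerivedCoh.RelAmp
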