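import Groth.Agent.DerivedCoh.RelAmp.Tensor
import Groth.Agent.DerivedCoh.RelAmp.StalkBC
import Groth.Agent.DAlg.PushoutRestrict
import Groth.Agent.DAlg.RelPCBaseChange

/-!
Relative tor amplitude and flat base change.
-/

universe u

open CategoryTheory CategoryTheory.Limits AlgebraicGeometry HomologicalComplex
open scoped TensorProduct

attribute [local instance] HasDerivedCategory.standard
set_option linter.style.haveILetI false

namespace Groth.DerivedCoh.RelAmp

open KFlat (stk pullCx IsKFlat)
open Groth.DAlg (extCx)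

local notation "up" => ComplexShape.up ℤ

section Algebra

variable {A A' B B' : Type u} [CommRing A] [CommRing A'] [CommRing B] [CommRing B']

/-- flat extension of scalars keeps the tor amplitude -/
theorem torAmp_extCx_of_flat (ψ : A →+* A') (hψ : ψ.Flat) (K : DRing.Cx A) {a b : ℤ}
    (h : DRing.HasTorAmplitudeIn A a b (DRing.toD K)) :
    DRing.HasTorAmplitudeIn A' a b (DRing.toD (extCx ψ K)) := by
  obtain ⟨E, hE, hEf, ⟨e⟩⟩ := h
  haveI : PreservesFiniteLimits (ModuleCat.extendScalars.{u, u, u} ψ) :=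
    ModuleCat.preservesFiniteLimits_extendScalars_of_flat hψ
  haveI : PreservesFiniteColimits (ModuleCat.extendScalars.{u, u, u} ψ) :=
    have := (ModuleCat.extendRestrictScalarsAdj.{u, u, u} ψ).leftAdjoint_preservesColimits
    inferInstance
  let G := ModuleCat.extendScalars.{u, u, u} ψ
  exact ⟨(G.mapHomologicalComplex up).obj E, fun i hi => G.map_isZero (hE i hi),
    fun i => KFlat.flat_extendScalars _ (E.X i) (hEf i),
    ⟨(G.mapDerivedCategoryFactors.app E).symm ≪≫ G.mapDerivedCategory.mapIso e ≪≫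
      G.mapDerivedCategoryFactors.app K⟩⟩

/-- tor amplitude over `A'` of the extension of scalars to an algebra `B'` flat over `A' ⊗_A B` -/
theorem torAmp_res_ext (ψ : A →+* A') (φ : A →+* B) (f' : A' →+* B') (g : B →+* B')
    (hflat : letI := ψ.toAlgebra; letI := φ.toAlgebra
      ∀ π : (A' ⊗[A] B) →+* B', π.comp Algebra.TensorProduct.includeLeftRingHom = f' →
        π.comp (Algebra.TensorProduct.includeRight (R := A) (A := A') (B := B)).toRingHom = g → π.Flat)
    (hc : g.comp φ = f'.comp ψ) (F : DRing.Cx B) {a b : ℤ}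
    (hF : DRing.HasTorAmplitudeIn A' a b (DRing.toD (extCx ψ ((DRing.restrictCx φ).obj F)))) :
    DRing.HasTorAmplitudeIn A' a b (DRing.toD ((DRing.restrictCx f').obj (extCx g F))) := by
  algebraize [ψ, φ, f', g, g.comp φ]
  letI : Algebra B (A' ⊗[A] B) := Algebra.TensorProduct.rightAlgebra
  haveI : IsScalarTower A A' B' := .of_algebraMap_eq fun x => congr($hc x)
  let π : A' ⊗[A] B →+* B' :=
    (Algebra.TensorProduct.lift (IsScalarTower.toAlgHom A A' B') (IsScalarTower.toAlgHom A B B')
      fun _ _ => .all _ _).toRingHom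
  have hl : π.comp Algebra.TensorProduct.includeLeftRingHom = f' := RingHom.ext fun x => by
    change f' x * g 1 = f' x
    rw [map_one, mul_one]
  have hr : π.comp (Algebra.TensorProduct.includeRight (R := A) (A := A') (B := B)).toRingHom = g :=
    RingHom.ext fun x => by
      change f' 1 * g x = g x
      rw [map_one, one_mul]
  let N : ModuleCat.{u} (A' ⊗[A] B) := (ModuleCat.restrictScalars π).obj (ModuleCat.of B' B')
  haveI : Module.Flat (A' ⊗[A] B) N := hflat π hl hr
  let L : DRing.Cx (A' ⊗[A] B) := extCx (algebraMap B (A' ⊗[A] B)) F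
  have hL : DRing.HasTorAmplitudeIn A' a b
      (DRing.toD ((DRing.restrictCx (algebraMap A' (A' ⊗[A] B))).obj L)) :=
    StalkAmp.torAmp_of_iso (DerivedCategory.Q.mapIso (DAlg.resExtCxIso F)) hF
  refine StalkAmp.torAmp_of_iso (DerivedCategory.Q.mapIso ?_)
    (DAlg.torAmp_res_tensor_flat (algebraMap A' (A' ⊗[A] B)) N L hL)
  refine (DRing.restrictCx _).mapIso ((NatIso.mapHomologicalComplex (DAlg.extResNatIso π) up).app L).symm ≪≫
    (DRing.restrictCx _).mapIso ((Functor.mapHomologicalComplexCompIso
      (Iso.refl (ModuleCat.extendScalars.{u, u, u} π ⋙ ModuleCat.restrictScalars π)) up).symm.app L) ≪≫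
    (Functor.mapHomologicalComplexCompIso (ModuleCat.restrictScalarsComp'.{u} (algebraMap A' (A' ⊗[A] B)) π f'
      hl.symm).symm up).app _ ≪≫
    (DRing.restrictCx f').mapIso ((Functor.mapHomologicalComplexCompIso
      ((ModuleCat.extendScalarsComp (algebraMap B (A' ⊗[A] B)) π).symm ≪≫
        eqToIso (congrArg ModuleCat.extendScalars.{u, u, u} hr)) up).app F)

end Algebra

variable {X Y X' Y' : Scheme.{u}} {f : X ⟶ Y} {g : X' ⟶ X} {h : Y' ⟶ Y} {f' : X' ⟶ Y'}

/-- the tor amplitude over the local ring of the base of the stalks -/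
theorem torAmp_baseStalk (H : IsPullback g f' f h) (P : CochainComplex X.Modules ℤ) {a b : ℤ}
    (hP : DerSch.HasTorAmplitude f a b P) (x' : X') :
    DRing.HasTorAmplitudeIn (Y.presheaf.stalk (h (f' x'))) a b
      (DRing.toD ((DRing.restrictCx (baseStalkHom H x').hom).obj ((StalkAmp.stkCx (g x')).obj P))) := by
  let e := Y.presheaf.stalkCongr
    (.of_eq (by rw [← Scheme.Hom.comp_apply, ← H.w, Scheme.Hom.comp_apply]) :
      Inseparable (h (f' x')) (f (g x')))
  let := e.hom.hom.toAlgebra
  haveI : Module.Flat (Y.presheaf.stalk (h (f' x'))) (Y.presheaf.stalk (f (g x'))) :=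
    RingHom.Flat.of_bijective (ConcreteCategory.bijective_of_isIso e.hom)
  have hB : DRing.HasTorAmplitudeIn (Y.presheaf.stalk (h (f' x'))) (-((0 : ℕ) : ℤ)) 0
      (DAlg.mD (ModuleCat.of (Y.presheaf.stalk (h (f' x'))) (Y.presheaf.stalk (f (g x'))))) := by
    simpa using DAlg.torAmp_mD_of_flat
      (ModuleCat.of (Y.presheaf.stalk (h (f' x'))) (Y.presheaf.stalk (f (g x'))))
  have h := DAlg.TorAmp.restrict hB (hP (g x'))
  rw [Nat.cast_zero, sub_zero] at h
  refine StalkAmp.torAmp_of_iso (DAlg.resQIso _ _ ≪≫ DerivedCategory.Q.mapIso ?_) h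
  exact (Functor.mapHomologicalComplexCompIso (Iso.refl (DerSch.stalkOver f (g x') ⋙
      ModuleCat.restrictScalars e.hom.hom)) up).app P ≪≫
    (Functor.mapHomologicalComplexCompIso (Functor.isoWhiskerLeft (stk (g x'))
      (ModuleCat.restrictScalarsComp'.{u} e.hom.hom (f.stalkMap (g x')).hom (baseStalkHom H x').hom rfl)) up).symm.app P

/-- relative tor amplitude of an inverse image, from that of the extended stalks -/
theorem hasTorAmplitude_pullCx_of_ext (H : IsPullback g f' f h) (P : CochainComplex X.Modules ℤ) {a b : ℤ}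
    (hP : ∀ x' : X', DRing.HasTorAmplitudeIn (Y'.presheaf.stalk (f' x')) a b
      (DRing.toD (extCx (h.stalkMap (f' x')).hom
        ((DRing.restrictCx (baseStalkHom H x').hom).obj ((StalkAmp.stkCx (g x')).obj P))))) :
    DerSch.HasTorAmplitude f' a b ((pullCx g).obj P) := by
  intro x'
  refine StalkAmp.torAmp_of_iso (DerivedCategory.Q.mapIso ?_)
    (torAmp_res_ext (h.stalkMap (f' x')).hom (baseStalkHom H x').hom (f'.stalkMap x').hom (g.stalkMap x').hom
      (flat_stalk_tensor H x') (congrArg CommRingCat.Hom.hom (baseStalkHom_comm H x')) _ (hP x'))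
  exact (DRing.restrictCx _).mapIso (pullCxStkIso g x' P).symm ≪≫
    (Functor.mapHomologicalComplexCompIso (Iso.refl (stk x' ⋙
      ModuleCat.restrictScalars (f'.stalkMap x').hom)) up).app _

/-- the tor amplitude along a flat base change -/
theorem hasTorAmplitude_pullCx (H : IsPullback g f' f h) [Flat h] (P : CochainComplex X.Modules ℤ) {a b : ℤ}
    (hP : DerSch.HasTorAmplitude f a b P) :
    DerSch.HasTorAmplitude f' a b ((pullCx g).obj P) :=
  hasTorAmplitude_pullCx_of_ext H P fun x' =>
    torAmp_extCx_of_flat _ (Flat.stalkMap h (f' x')) _ (torAmp_baseStalk H P hP x')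

end Groth.DerivedCoh.RelAmp
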