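import Groth.Agent.DerivedCoh.RelAmpTilde
import Groth.Agent.DAlg.RelPerfectPoly
import Groth.Agent.DAlg.RelPerfectBC
import Groth.Agent.PCohHom.Perf
import Groth.Agent.DAlg.FreeLocusAmp

/-!
Relative tor amplitude at generalizations of points of a closed fibre, from the derived fibre.
-/

universe u

open CategoryTheory CategoryTheory.Limits AlgebraicGeometry HomologicalComplex
open scoped TensorProduct

attribute [local instance] HasDerivedCategory.standard
set_option linter.style.haveILetI false

namespace Groth.DerivedCoh.RelAmp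

open Groth.DAlg FlatCxBase

local notation "up" => ComplexShape.up ℤ

variable {R B B₀ R₀ : Type u} [CommRing R] [CommRing B] [CommRing B₀] [CommRing R₀] [Algebra R B]
  [Algebra R R₀] [Algebra R₀ B₀] [Algebra B B₀] [Algebra R B₀] [IsScalarTower R R₀ B₀] [IsScalarTower R B B₀]
  [Algebra.IsPushout R R₀ B B₀] [Module.Flat R B] [Algebra.FinitePresentation R B]

/-- tor amplitude at generalizations of the closed fibre, from the tor amplitude of the derived fibre -/
theorem exists_amp_of_fibre (hs : Function.Surjective (algebraMap R R₀))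
    [PreservesFiniteLimits (tilde.functor (CommRingCat.of B))] (K : DRing.Cx B)
    (hpc : DRing.IsPseudoCoherent' B (DRing.toD K)) [DRing.HasLBaseChange (algebraMap B B₀)] (a b : ℤ)
    (h : DRing.HasTorAmplitudeIn R₀ a b
      ((DRing.restrictD (algebraMap R₀ B₀)).obj ((DRing.LBaseChange (algebraMap B B₀)).obj (DRing.toD K)))) :
    ∃ c d : ℤ, ∀ x x' : PrimeSpectrum B,
      RingHom.ker (algebraMap R R₀) ≤ x.asIdeal.comap (algebraMap R B) → x'.asIdeal ≤ x.asIdeal →
      DerSch.HasTorAmplitudeAt (Spec.map (CommRingCat.ofHom (algebraMap R B))) c d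
        (((tilde.functor (CommRingCat.of B)).mapHomologicalComplex up).obj K) x' := by
  obtain ⟨n, ψ, hψ⟩ := Algebra.FiniteType.iff_quotient_mvPolynomial''.1
    (inferInstance : Algebra.FiniteType R B)
  let P := MvPolynomial (Fin n) R
  letI : Algebra P B := ψ.toRingHom.toAlgebra
  haveI : IsScalarTower R P B := IsScalarTower.of_algebraMap_eq fun r => (ψ.commutes r).symm
  have hA : PCMap (algebraMap P B) := pcMap_algebraMap_iff.2
    (PCohHom.pcAlong_algebraMap.1 ((PCohHom.pcHom_iff ψ hψ).1 (PCohHom.pcHom_of_flat_finitePresentation R B)))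
  obtain ⟨F, B', hB, hFF, ⟨e⟩⟩ : DRing.IsPseudoCoherent' P
      ((DRing.restrictD (algebraMap P B)).obj (DRing.toD K)) :=
    isPseudoCoherent'_iff_isPC.2 fun m => hA.res (isPseudoCoherent'_iff_isPC.1 hpc m)
  have hF : DRing.TermwiseFiniteProjective F := fun i => ⟨(hFF i).1, haveI := (hFF i).2; inferInstance⟩
  have hflat := termwiseFlat_of_finProj F hF
  let X := (DRing.restrictCx (algebraMap R P)).obj F
  have hXb : DRing.VanishesAbove X B' := fun i hi => (ModuleCat.restrictScalars _).map_isZero (hB i hi)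
  have hXf : DRing.TermwiseFlat X := termwiseFlat_restrictCx hflat
  obtain ⟨ec⟩ := nonempty_res_comp (algebraMap R P) (algebraMap P B) (DRing.toD K)
  rw [← IsScalarTower.algebraMap_eq R P B] at ec
  let eR : DRing.toD X ≅ (DRing.restrictD (algebraMap R B)).obj (DRing.toD K) :=
    (resQIso _ F).symm ≪≫ (DRing.restrictD (algebraMap R P)).mapIso e ≪≫ ec
  haveI := hasLBaseChange (algebraMap R R₀)
  obtain ⟨G, g, hG, -, ⟨eG⟩⟩ := id hpc
  obtain ⟨e₁⟩ := nonempty_res_lBaseChange_iso (R := R) (A := B) (R' := R₀) (A' := B₀) (K := DRing.toD K) (b := g)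
    fun i hi => subsingleton_HD_of_iso eG (hG i hi)
  obtain ⟨e₂⟩ := nonempty_lBaseChangeFlatIso (algebraMap R R₀) X hXb hXf
  have h₀ : DRing.HasTorAmplitudeIn R₀ a b (DRing.toD (extCx (algebraMap R R₀) X)) :=
    TorAmp.of_iso h (e₁.symm ≪≫ (DRing.LBaseChange (algebraMap R R₀)).mapIso eR.symm ≪≫ e₂)
  haveI : ∀ M : ModuleCat.{u} R₀, DRing.HasLTensor R₀ M := hasLTensor
  -- amplitude over the local rings of the polynomial ring
  have hq : ∀ (q : PrimeSpectrum P), RingHom.ker (algebraMap R R₀) ≤ q.asIdeal.comap (algebraMap R P) →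
      DRing.HasTorAmplitudeIn (Localization.AtPrime q.asIdeal) (a - n) b
        (DRing.toD (extCx (algebraMap P (Localization.AtPrime q.asIdeal)) F)) := fun q hq => by
    let p : PrimeSpectrum R := PrimeSpectrum.comap (algebraMap R P) q
    letI : Algebra (Localization.AtPrime p.asIdeal) (Localization.AtPrime q.asIdeal) :=
      (Localization.localRingHom p.asIdeal q.asIdeal (algebraMap R _) rfl).toAlgebra
    haveI : IsScalarTower R (Localization.AtPrime p.asIdeal) (Localization.AtPrime q.asIdeal) :=
      IsScalarTower.of_algebraMap_eq fun r => by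
        rw [RingHom.algebraMap_toAlgebra, Localization.localRingHom_to_map,
          ← IsScalarTower.algebraMap_apply R P (Localization.AtPrime q.asIdeal)]
    letI : Algebra R₀ p.asIdeal.ResidueField :=
      ((algebraMap R R₀).liftOfSurjective hs
        ⟨algebraMap R p.asIdeal.ResidueField, fun r hr => by
          rw [RingHom.mem_ker, ← RingHom.mem_ker, Ideal.ker_algebraMap_residueField]
          exact hq hr⟩).toAlgebra
    haveI : IsScalarTower R R₀ p.asIdeal.ResidueField := IsScalarTower.of_algebraMap_eq fun r =>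
      (RingHom.liftOfRightInverse_comp_apply (algebraMap R R₀) _ (Function.rightInverse_surjInv hs)
        ⟨algebraMap R p.asIdeal.ResidueField, _⟩ r).symm
    refine torAmp_atPrime_of_fibre p.asIdeal q.asIdeal rfl F hB hF a b fun i hi => ?_
    have hz := (hasTorAmplitudeIn_iff _ a b).1 h₀ (ModuleCat.of R₀ p.asIdeal.ResidueField) i hi
    obtain ⟨et⟩ := nonempty_lTensorFlatIso (extCx (algebraMap R R₀) X)
      (fun j hj => (ModuleCat.extendScalars _).map_isZero (hXb j hj)) (termwiseFlat_extCx _ hXf)
      (ModuleCat.of R₀ p.asIdeal.ResidueField)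
    refine (isZero_extCx_tensor_iff (S := R₀) X p.asIdeal.ResidueField i).1 ?_
    haveI := hz
    exact isZero_homology_of_subsingleton (HDCongr et.symm i).toEquiv.subsingleton
  refine ⟨a - n, b, fun x x' hx hx' => ?_⟩
  refine (RelAmpTilde.torAmp_res_stalk_iff (algebraMap R B) K x' _ _).2 ?_
  let xs : Spec (CommRingCat.of B) := x'
  let β := (Groth.Agent.S1121.toStalkRing xs).hom
  let L := (Spec (CommRingCat.of B)).presheaf.stalk xs
  let q : PrimeSpectrum P := PrimeSpectrum.comap (algebraMap P B) x
  let q' : PrimeSpectrum P := PrimeSpectrum.comap (algebraMap P B) x'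
  let Pq := Localization.AtPrime q.asIdeal
  let Pq' := Localization.AtPrime q'.asIdeal
  have hle : q.asIdeal.primeCompl ≤ q'.asIdeal.primeCompl := fun r hr hr' =>
    hr (Ideal.comap_mono hx' hr')
  letI := IsLocalization.localizationAlgebraOfSubmonoidLe Pq Pq' q.asIdeal.primeCompl q'.asIdeal.primeCompl hle
  haveI := IsLocalization.localization_isScalarTower_of_submonoid_le Pq Pq' q.asIdeal.primeCompl
    q'.asIdeal.primeCompl hle
  haveI := hasLBaseChange (algebraMap Pq Pq')
  obtain ⟨e₃⟩ := nonempty_lBaseChangeFlatIso (algebraMap Pq Pq') (extCx (algebraMap P Pq) F) (b := B')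
    (fun j hj => (ModuleCat.extendScalars _).map_isZero (hB j hj)) (termwiseFlat_extCx _ hflat)
  let eC : extCx (algebraMap Pq Pq') (extCx (algebraMap P Pq) F) ≅ extCx (algebraMap P Pq') F :=
    (Functor.mapHomologicalComplexCompIso
      ((ModuleCat.extendScalarsComp (algebraMap P Pq) (algebraMap Pq Pq')).symm ≪≫
        eqToIso (congrArg ModuleCat.extendScalars.{u, u, u} (IsScalarTower.algebraMap_eq P Pq Pq').symm)) up).app F
  have h₁ : DRing.HasTorAmplitudeIn Pq' (a - n) b (DRing.toD (extCx (algebraMap P Pq') F)) :=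
    TorAmp.of_iso (TorAmp.baseChange _ (hq q (by
      intro r hr
      have := hx hr
      simpa [q, IsScalarTower.algebraMap_apply R P B, Ideal.mem_comap] using this)))
      (e₃ ≪≫ DerivedCategory.Q.mapIso eC)
  -- compare with the stalk of `K~`
  letI := β.toAlgebra
  haveI : IsLocalization x'.asIdeal.primeCompl L := RelAmpTilde.isLocalization_toStalkRing xs
  haveI hsub : IsLocalization (Algebra.algebraMapSubmonoid B q'.asIdeal.primeCompl) L := by
    convert (inferInstance : IsLocalization x'.asIdeal.primeCompl L)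
    ext y
    constructor
    · rintro ⟨r, hr, rfl⟩
      exact hr
    · intro hy
      obtain ⟨r, rfl⟩ := hψ y
      exact ⟨r, hy, rfl⟩
  letI : Algebra P L := (β.comp (algebraMap P B)).toAlgebra
  haveI : IsScalarTower P B L := IsScalarTower.of_algebraMap_eq fun _ => rfl
  letI : Algebra Pq' L := (IsLocalization.lift (M := q'.asIdeal.primeCompl) (g := algebraMap P L) fun s =>
    IsLocalization.map_units (M := x'.asIdeal.primeCompl) L ⟨algebraMap P B s, s.2⟩).toAlgebra
  haveI : IsScalarTower P Pq' L := IsScalarTower.of_algebraMap_eq fun r => (IsLocalization.lift_eq _ r).symm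
  haveI : Algebra.IsPushout P B Pq' L := Algebra.isPushout_of_isLocalization q'.asIdeal.primeCompl _ _ _
  haveI : Algebra.IsPushout P Pq' B L := Algebra.IsPushout.symm inferInstance
  have hPf : (algebraMap P Pq').Flat :=
    RingHom.flat_algebraMap_iff.2 (IsLocalization.flat Pq' q'.asIdeal.primeCompl)
  haveI := hasLBaseChange (algebraMap P Pq')
  obtain ⟨eA⟩ := nonempty_lBaseChange_extCx (algebraMap P Pq') hPf F
  obtain ⟨eB⟩ := nonempty_lBaseChange_extCx (algebraMap P Pq') hPf ((DRing.restrictCx (algebraMap P B)).obj K)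
  have h₂ : DRing.HasTorAmplitudeIn Pq' (a - n) b
      (DRing.toD ((DRing.restrictCx (algebraMap Pq' L)).obj (extCx (algebraMap B L) K))) :=
    TorAmp.of_iso h₁ (eA.symm ≪≫ (DRing.LBaseChange (algebraMap P Pq')).mapIso (e ≪≫ resQIso _ K) ≪≫ eB ≪≫
      DerivedCategory.Q.mapIso (resExtCxIso K))
  haveI : Module.Flat R Pq' := Module.Flat.trans R P Pq'
  have hB' : DRing.HasTorAmplitudeIn R (-((0 : ℕ) : ℤ)) 0 (mD (ModuleCat.of R Pq')) := by
    simpa using torAmp_mD_of_flat (ModuleCat.of R Pq')
  have h₃ := TorAmp.restrict hB' h₂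
  rw [Nat.cast_zero, sub_zero] at h₃
  have hcomp : (algebraMap Pq' L).comp (algebraMap R Pq') = β.comp (algebraMap R B) := by
    rw [IsScalarTower.algebraMap_eq R P Pq', ← RingHom.comp_assoc, ← IsScalarTower.algebraMap_eq P Pq' L,
      IsScalarTower.algebraMap_eq R P B, ← RingHom.comp_assoc]
    rfl
  rw [RelAmpTilde.torAmp_res_comp_iff, ← hcomp, ← RelAmpTilde.torAmp_res_comp_iff]
  exact TorAmp.of_iso h₃ (resQIso _ _)

end Groth.DerivedCoh.RelAmp
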