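import Groth.Agent.DerivedCoh.RelAmp.ClosedImm
import Groth.Agent.RelPC.NPC
import Groth.Agent.PCohHom.Perf
import Groth.Agent.DAlg.TorDim

/-!
Morphisms of perfect dimension zero.
-/

universe u

open CategoryTheory CategoryTheory.Limits AlgebraicGeometry

attribute [local instance] HasDerivedCategory.standard
set_option linter.style.haveILetI false

namespace Groth.DerivedCoh.RelAmp

open Groth.DAlg Groth.PCohHom

variable {X Y : Scheme.{u}}

/-- a pseudo-coherent ring map is finitely presented -/
theorem finitePresentation_of_pcHom (A B : Type u) [CommRing A] [CommRing B] [Algebra A B]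
    (h : MoreMor.IsPseudoCoherentHom A B) : Algebra.FinitePresentation A B := by
  obtain ⟨n, φ, hφ, hpc⟩ := h
  refine ⟨n, φ, hφ, ?_⟩
  let := φ.toRingHom.toAlgebra
  have : Module.FinitePresentation (MvPolynomial (Fin n) A) B :=
    (pcn_neg_one_mD_iff (ModuleCat.of (MvPolynomial (Fin n) A) B)).1 ((pc_iff.1 hpc) 1)
  exact Module.FinitePresentation.fg_ker (Algebra.linearMap (MvPolynomial (Fin n) A) B) hφ

/-- pseudo-coherent morphisms are locally of finite presentation -/
theorem locallyOfFinitePresentation_of_pcMor (f : X ⟶ Y) (h : MoreMor.IsPseudoCoherentMor f) :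
    LocallyOfFinitePresentation f := by
  rw [HasRingHomProperty.iff_appLE (P := @LocallyOfFinitePresentation)]
  intro V U e
  let := (f.appLE V.1 U.1 e).hom.toAlgebra
  exact finitePresentation_of_pcHom _ _ (h U.1 V.1 U.2 V.2 e)

/-- tor dimension zero is flatness -/
theorem flat_of_hasTorDimLE_zero (f : X ⟶ Y) (h : DerSch.HasTorDimLE f 0) : Flat f := by
  rw [Flat.iff_flat_stalkMap]
  intro x
  let := (f.stalkMap x).hom.toAlgebra
  exact DAlg.flat_of_torAmp_zero
    (M := ModuleCat.of (Y.presheaf.stalk (f x)) (X.presheaf.stalk x))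
    (DAlg.TorAmp.mono ((Groth.Misc13.TorDimFactor.hasTorAmplitudeAt_unit_iff f x _ _).1 (h x)) (by simp) le_rfl)

/-- perfect dimension zero: flat and locally of finite presentation -/
theorem hasPerfDimLE_zero_iff (f : X ⟶ Y) [LocallyOfFiniteType f] :
    DerSch.HasPerfDimLE f 0 ↔ (Flat f ∧ LocallyOfFinitePresentation f) := by
  constructor
  · exact fun h => ⟨flat_of_hasTorDimLE_zero f h.2,
      locallyOfFinitePresentation_of_pcMor f (Groth.RelPC.pcMor_of_npc f fun n => h.1 n)⟩
  · rintro ⟨h₁, h₂⟩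
    refine ⟨fun m => (Groth.RelPC.rel_abs_iff f (Groth.RelPC.pcMor_of_flat_lfp f) m _).2 ?_, hasTorDimLE_zero f⟩
    exact Groth.DerivedCoh.PCoh.isPseudoCoherentD_of_iso
      ((DerivedCategory.singleFunctorIsoCompQ _ 0).app _) (Groth.DerivedCoh.PCoh.isPseudoCoherentD_of_isPerfect (Groth.DerivedCoh.PCoh.isPerfect_inD (Groth.LocFree.isFinLocFree_unit X)) m)

end Groth.DerivedCoh.RelAmp
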