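import Groth.Agent.DAlg.TorAmpSmooth
import Groth.Agent.DerivedCoh.RelAmp.ClosedImm
import Groth.Agent.Misc7.ClosedImm.Modules
import Groth.Agent.KTheory.Perf
import Groth.Agent.Misc13.TorDimFactor
import Mathlib.AlgebraicGeometry.Morphisms.Smooth

/-!
Tor amplitude relative to a composite with a smooth morphism.
-/

universe u

open CategoryTheory CategoryTheory.Limits AlgebraicGeometry HomologicalComplex TopologicalSpace
open Groth.DerivedCoh.KFlat (stk)
open Groth.DAlg.SmoothAmp (AmpUp ampUp_localization ampUp_of_bijective)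

attribute [local instance] HasDerivedCategory.standard
set_option linter.style.haveILetI false

namespace Groth.DerivedCoh.RelAmp

local notation "up" => ComplexShape.up ℤ

variable {X Y S : Scheme.{u}}

theorem ampUp_stalk_of_chart (g : Y ⟶ S) {U : S.Opens} {W : Y.Opens} (hU : IsAffineOpen U) (hW : IsAffineOpen W)
    (e : W ≤ g ⁻¹ᵁ U) {n : ℕ} (h : (g.appLE U W e).hom.IsStandardSmoothOfRelativeDimension n) {y : Y} (hy : y ∈ W) :
    AmpUp (g.stalkMap y).hom n := by
  letI : Algebra Γ(S, U) (S.presheaf.stalk (g y)) := TopCat.Presheaf.algebra_section_stalk S.presheaf ⟨g y, e hy⟩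
  letI : Algebra Γ(Y, W) (Y.presheaf.stalk y) := TopCat.Presheaf.algebra_section_stalk Y.presheaf ⟨y, hy⟩
  haveI : IsLocalization.AtPrime (S.presheaf.stalk (g y)) (hU.primeIdealOf ⟨g y, e hy⟩).asIdeal :=
    hU.isLocalization_stalk ⟨g y, e hy⟩
  haveI : IsLocalization.AtPrime (Y.presheaf.stalk y) (hW.primeIdealOf ⟨y, hy⟩).asIdeal :=
    hW.isLocalization_stalk ⟨y, hy⟩
  refine ampUp_localization (hU.primeIdealOf ⟨g y, e hy⟩).asIdeal.primeCompl
    (hW.primeIdealOf ⟨y, hy⟩).asIdeal.primeCompl h (g.stalkMap y).hom (RingHom.ext fun r => ?_)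
  exact (Scheme.Hom.germ_stalkMap_apply g U y (e hy) r).trans
    (TopCat.Presheaf.germ_res_apply Y.presheaf (homOfLE e) y hy (g.app U r)).symm

theorem exists_ampUp_stalk (g : Y ⟶ S) [Smooth g] (y : Y) :
    ∃ (W : Y.Opens) (n : ℕ), y ∈ W ∧ ∀ z ∈ W, AmpUp (g.stalkMap z).hom n := by
  obtain ⟨U, hU, W, hW, hy, e, h⟩ := Smooth.exists_isStandardSmooth g y
  obtain ⟨n, hn⟩ : ∃ n, (g.appLE U W e).hom.IsStandardSmoothOfRelativeDimension n := by
    algebraize [(g.appLE U W e).hom]
    obtain ⟨ι, σ, _, _, P⟩ := ‹Algebra.IsStandardSmooth Γ(S, U) Γ(Y, W)›.out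
    exact ⟨_, ι, σ, _, inferInstance, P.some, rfl⟩
  exact ⟨W, n, hy, fun z hz => ampUp_stalk_of_chart g hU hW e hn hz⟩

theorem ampUp_stalk_of_open (g : Y ⟶ S) (V : Y.Opens) (n : ℕ) [SmoothOfRelativeDimension n (V.ι ≫ g)]
    {y : Y} (hy : y ∈ V) : AmpUp (g.stalkMap y).hom n := by
  obtain ⟨U, hU, W, hW, hyW, e, h⟩ :=
    SmoothOfRelativeDimension.exists_isStandardSmoothOfRelativeDimension (n := n) (f := V.ι ≫ g) ⟨y, hy⟩
  have h1 := ampUp_stalk_of_chart (V.ι ≫ g) hU hW e h hyW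
  let v : (V : Scheme.{u}) := ⟨y, hy⟩
  haveI : IsIso (V.ι.stalkMap v) := inferInstance
  change AmpUp ((V.ι ≫ g).stalkMap v).hom n at h1
  change AmpUp (g.stalkMap (V.ι v)).hom n
  have h2 := h1.comp (ampUp_of_bijective (φ := (inv (V.ι.stalkMap v)).hom)
    (ConcreteCategory.bijective_of_isIso (inv (V.ι.stalkMap v))))
  rw [add_zero, ← CommRingCat.hom_comp] at h2
  have e' : (V.ι ≫ g).stalkMap v ≫ inv (V.ι.stalkMap v) = g.stalkMap (V.ι v) :=
    ((IsIso.eq_comp_inv _).2 (Scheme.Hom.stalkMap_comp V.ι g v).symm).symm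
  exact e' ▸ h2

/-- Tor amplitude over the source of a smooth morphism from tor amplitude over its target. -/
theorem hasTorAmplitudeAt_of_comp (f : X ⟶ Y) (g : Y ⟶ S) {n : ℕ} (x : X)
    (hg : AmpUp (g.stalkMap (f x)).hom n) (F : CochainComplex X.Modules ℤ) {a b : ℤ}
    (hF : DerSch.HasTorAmplitudeAt (f ≫ g) a b F x) : DerSch.HasTorAmplitudeAt f (a - n) b F x :=
  hg _ a b (StalkAmp.torAmp_of_iso (DerivedCategory.Q.mapIso (stalkCompIso f g x F)) hF)

/-- Tor amplitude over the target of a flat morphism from tor amplitude over its source. -/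
theorem hasTorAmplitudeAt_comp_flat (f : X ⟶ Y) (g : Y ⟶ S) [Flat g] (x : X) (F : CochainComplex X.Modules ℤ)
    {a b : ℤ} (hF : DerSch.HasTorAmplitudeAt f a b F x) : DerSch.HasTorAmplitudeAt (f ≫ g) a b F x := by
  let := (g.stalkMap (f x)).hom.toAlgebra
  have hB := (Groth.Misc13.TorDimFactor.hasTorAmplitudeAt_unit_iff g (f x) _ _).1 (hasTorDimLE_zero g (f x))
  have h := StalkAmp.torAmp_of_iso ((DAlg.resQIso _ _) ≪≫
      DerivedCategory.Q.mapIso (stalkCompIso f g x F).symm)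
    (DAlg.TorAmp.restrict hB hF)
  exact DAlg.TorAmp.mono h (by simp) le_rfl

section Push

variable (i : X ⟶ Y) [IsClosedImmersion i] (F : CochainComplex X.Modules ℤ)

theorem torAmp_stkCx_push_iff (x : X) (a b : ℤ) :
    DRing.HasTorAmplitudeIn (Y.presheaf.stalk (i x)) a b
        (DRing.toD ((StalkAmp.stkCx (i x)).obj (((Scheme.Modules.pushforward i).mapHomologicalComplex up).obj F))) ↔
      DerSch.HasTorAmplitudeAt i a b F x :=
  let e := DerivedCategory.Q.mapIso ((Functor.mapHomologicalComplexCompIso (pushStkIso i x) up).app F)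
  ⟨StalkAmp.torAmp_of_iso e, StalkAmp.torAmp_of_iso e.symm⟩

theorem torAmp_stkCx_push_outside {y : Y} (hy : y ∉ Set.range i) (a b : ℤ) :
    DRing.HasTorAmplitudeIn (Y.presheaf.stalk y) a b
      (DRing.toD ((StalkAmp.stkCx y).obj (((Scheme.Modules.pushforward i).mapHomologicalComplex up).obj F))) := by
  refine DAlg.TorAmp.of_isZero (DerivedCategory.Q.map_isZero ?_) a b
  rw [IsZero.iff_id_eq_zero]
  refine HomologicalComplex.hom_ext _ _ fun k => ?_
  have : Subsingleton ((stk y).obj ((Scheme.Modules.pushforward i).obj (F.X k))) :=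
    ⟨fun s t => ((Groth.Misc7.ClosedImm.killed_push i (F.X k)).outside y hy s).trans
      ((Groth.Misc7.ClosedImm.killed_push i (F.X k)).outside y hy t).symm⟩
  exact (ModuleCat.isZero_iff_subsingleton.2 this).eq_of_src _ _

end Push

/-- Stalk tor amplitude passes to open subschemes. -/
theorem stalkAmp_restrict {U : Scheme.{u}} (j : U ⟶ X) [IsOpenImmersion j] (C : CochainComplex X.Modules ℤ)
    {a b : ℤ} (h : ∀ v : U, DRing.HasTorAmplitudeIn (X.presheaf.stalk (j v)) a b
      (DRing.toD ((StalkAmp.stkCx (j v)).obj C))) :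
    StalkAmp.HasStalkAmp a b (DCoh.toD U (((Scheme.Modules.restrictFunctor j).mapHomologicalComplex up).obj C)) := by
  rw [StalkAmp.stalkAmp_toD_iff]
  intro v
  obtain ⟨E, hE, hEf, ⟨e⟩⟩ := h v
  let G := ModuleCat.extendScalars.{u, u, u} (j.stalkMap v).hom
  haveI : PreservesFiniteLimits G := ModuleCat.preservesFiniteLimits_extendScalars_of_flat
    (RingHom.Flat.of_bijective (ConcreteCategory.bijective_of_isIso (j.stalkMap v)))
  haveI := (ModuleCat.extendRestrictScalarsAdj.{u, u, u} (j.stalkMap v).hom).leftAdjoint_preservesColimits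
  let α : Scheme.Modules.restrictFunctor j ⋙ stk v ≅ stk (j v) ⋙ G :=
    Functor.isoWhiskerRight (Scheme.Modules.restrictFunctorIsoPullback j) _ ≪≫ KFlat.pullStkIso j v
  refine ⟨(G.mapHomologicalComplex up).obj E, fun i hi => G.map_isZero (hE i hi),
    fun i => KFlat.flat_extendScalars _ (E.X i) (hEf i), ⟨?_⟩⟩
  exact (G.mapDerivedCategoryFactors.app E).symm ≪≫ G.mapDerivedCategory.mapIso e ≪≫
    G.mapDerivedCategoryFactors.app ((StalkAmp.stkCx (j v)).obj C) ≪≫
    DerivedCategory.Q.mapIso ((NatIso.mapHomologicalComplex α up).app C).symm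

end Groth.DerivedCoh.RelAmp
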