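import Groth.Agent.DerivedCoh.RelAmp.SmoothAmp
import Groth.Agent.DerivedCoh.PCoh.Perfect

/-!
Tor dimension of direct images along closed immersions into smooth schemes.
-/

universe u

open CategoryTheory CategoryTheory.Limits AlgebraicGeometry HomologicalComplex TopologicalSpace
open Groth.DAlg.SmoothAmp (AmpUp)

attribute [local instance] HasDerivedCategory.standard
set_option linter.style.haveILetI false

namespace Groth.DerivedCoh.RelAmp

local notation "up" => ComplexShape.up ℤ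

variable {X Y S : Scheme.{u}} (i : X ⟶ Y) [IsClosedImmersion i] (g : Y ⟶ S) (F : CochainComplex X.Modules ℤ)

/-- Absolute tor amplitude of a direct image from relative tor amplitude. -/
theorem flatAmp_push {d : ℕ} (hg : ∀ y : Y, AmpUp (g.stalkMap y).hom d) {a b : ℤ}
    (hF : DerSch.HasTorAmplitude (i ≫ g) a b F) :
    DCoh.HasFlatAmplitudeIn (a - d) b
      (DCoh.toD Y (((Scheme.Modules.pushforward i).mapHomologicalComplex up).obj F)) := by
  refine StalkAmp.flatAmp_of_stalkAmp ((StalkAmp.stalkAmp_toD_iff _ _ _).2 fun y => ?_)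
  by_cases hy : y ∈ Set.range i
  · obtain ⟨x, rfl⟩ := hy
    exact (torAmp_stkCx_push_iff i F x _ _).2 (hasTorAmplitudeAt_of_comp i g x (hg (i x)) F (hF x))
  · exact torAmp_stkCx_push_outside i F hy _ _

theorem locFiniteTorAmplitude_iff_push [Smooth g] :
    DerSch.LocFiniteTorAmplitude (i ≫ g) F ↔
      DCoh.LocHasFiniteTorDim (DCoh.toD Y (((Scheme.Modules.pushforward i).mapHomologicalComplex up).obj F)) := by
  let P := ((Scheme.Modules.pushforward i).mapHomologicalComplex up).obj F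
  constructor
  · intro h y
    have key : ∃ (V : Y.Opens) (a b : ℤ), y ∈ V ∧ ∀ v ∈ V, DRing.HasTorAmplitudeIn (Y.presheaf.stalk v) a b
        (DRing.toD ((StalkAmp.stkCx v).obj P)) := by
      by_cases hy : y ∈ Set.range i
      · obtain ⟨x, rfl⟩ := hy
        obtain ⟨U, a, b, hxU, hU⟩ := h x
        obtain ⟨W₀, hW₀, hW₀U⟩ := i.isClosedEmbedding.isInducing.isOpen_iff.1 U.2
        obtain ⟨W, n, hxW, hW⟩ := exists_ampUp_stalk g (i x)
        refine ⟨⟨W₀, hW₀⟩ ⊓ W, a - n, b, ⟨(Set.ext_iff.1 hW₀U x).2 hxU, hxW⟩, fun v hv => ?_⟩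
        by_cases hv' : v ∈ Set.range i
        · obtain ⟨z, rfl⟩ := hv'
          exact (torAmp_stkCx_push_iff i F z _ _).2 (hasTorAmplitudeAt_of_comp i g z (hW _ hv.2) F
            (hU z ((Set.ext_iff.1 hW₀U z).1 hv.1)))
        · exact torAmp_stkCx_push_outside i F hv' _ _
      · exact ⟨⟨(Set.range i)ᶜ, i.isClosedEmbedding.isClosed_range.isOpen_compl⟩, 0, 0, hy,
          fun v hv => torAmp_stkCx_push_outside i F hv _ _⟩
    obtain ⟨V, a, b, hy, hV⟩ := key
    refine ⟨V, a, b, hy, fun F' ⟨e⟩ => StalkAmp.flatAmp_of_stalkAmp ?_⟩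
    exact StalkAmp.HasStalkAmp.of_iso ((Groth.KTheory.Perf.rdQIso V.ι P).symm ≪≫
      (Groth.KTheory.Perf.Rd V.ι).mapIso e.symm ≪≫ Groth.KTheory.Perf.rdQIso V.ι F')
      (stalkAmp_restrict V.ι P fun v => hV _ v.2)
  · intro h x
    obtain ⟨V, a, b, hxV, hV⟩ := h (i x)
    have hflat := hV P ⟨Iso.refl _⟩
    refine ⟨i ⁻¹ᵁ V, a, b, hxV, fun z hz => hasTorAmplitudeAt_comp_flat i g z F
      ((torAmp_stkCx_push_iff i F z a b).1 ?_)⟩
    have := StalkAmp.torAmp_stkD_of_restrict V.ι ⟨i z, hz⟩ (K := DCoh.toD Y P)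
      (StalkAmp.HasStalkAmp.of_iso (Groth.KTheory.Perf.rdQIso V.ι P).symm (StalkAmp.stalkAmp_of_flatAmp hflat))
    exact StalkAmp.torAmp_of_iso (StalkAmp.stkDQ _ P) this

end Groth.DerivedCoh.RelAmp
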