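import Groth.Agent.DerivedCoh.RelAmp.TorIndep
import Groth.Agent.DAlg.NilpotentAmp
import Groth.Agent.Ega4Algebra2.RegularImmersion

/-!
Relative tor amplitude along nilpotent thickenings of the base.
-/

universe u

open CategoryTheory CategoryTheory.Limits AlgebraicGeometry HomologicalComplex
open scoped TensorProduct

attribute [local instance] HasDerivedCategory.standard
set_option linter.style.haveILetI false

namespace Groth.DerivedCoh.RelAmp

open KFlat (stk pullCx)
open Groth.DAlg (extCx)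
open Groth.DAlg.KFlatMod (IsKFlatCx isKFlatCx_iff)

local notation "up" => ComplexShape.up ℤ

section Algebra

variable {O A A' O₁ : Type u} [CommRing O] [CommRing A] [CommRing A'] [CommRing O₁]

/-- the derived base change of a K-flat complex -/
theorem nonempty_lBaseChange_kFlat (σ : O →+* O₁) [DRing.HasLBaseChange σ] (C : DRing.Cx O)
    (hC : IsKFlatCx O C) :
    Nonempty ((DRing.LBaseChange σ).obj (DRing.toD C) ≅ DRing.toD (extCx σ C)) := by
  obtain ⟨P, p, hP, hp, -, -⟩ := DAlg.exists_kProjective_resolution C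
  haveI := hP
  haveI := hp
  have hq := (DerivedCategory.isIso_Q_map_iff_quasiIso (φ := _)).2
    (Groth.BaseCmpKFlat.quasiIso_extCx_of_kFlat σ (DAlg.isKFlatCx_of_isKProjective P) hC p)
  exact ⟨(DRing.LBaseChange σ).mapIso (asIso (DerivedCategory.Q.map p)).symm ≪≫ DAlg.lBaseChangeIso σ P ≪≫
    @asIso _ _ _ _ (DerivedCategory.Q.map _) hq⟩

/-- for surjective maps of local rings a flat comparison with the tensor product is bijective -/
theorem isPushout_of_surjective [Algebra O O₁] [Algebra O A] [Algebra A A'] [Algebra O₁ A'] [Algebra O A']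
    [IsScalarTower O A A'] [IsScalarTower O O₁ A'] [IsLocalRing A] [IsLocalRing A']
    (hσ : Function.Surjective (algebraMap O O₁)) (hψ : Function.Surjective (algebraMap A A'))
    (hflat : ∀ π : (O₁ ⊗[O] A) →+* A', π.comp Algebra.TensorProduct.includeLeftRingHom = algebraMap O₁ A' →
        π.comp (Algebra.TensorProduct.includeRight (R := O) (A := O₁) (B := A)).toRingHom = algebraMap A A' →
        π.Flat) :
    Algebra.IsPushout O O₁ A A' := by
  let π : O₁ ⊗[O] A →ₐ[O₁] A' := Algebra.TensorProduct.lift (Algebra.ofId O₁ A') (IsScalarTower.toAlgHom O A A')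
    fun _ _ => .all _ _
  have hr : ∀ a : A, π ((1 : O₁) ⊗ₜ a) = algebraMap A A' a := fun a => by simp [π]
  have hl : ∀ x : O₁, π (x ⊗ₜ (1 : A)) = algebraMap O₁ A' x := fun x => by simp [π, Algebra.ofId_apply]
  have hs : Function.Surjective π := fun y => by
    obtain ⟨a, rfl⟩ := hψ y
    exact ⟨_, hr a⟩
  have hS : Function.Surjective (Algebra.TensorProduct.includeRight (R := O) (A := O₁) (B := A)) :=
    TensorProduct.mk_surjective O A O₁ hσ
  haveI : Nontrivial (O₁ ⊗[O] A) := π.toRingHom.domain_nontrivial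
  haveI : IsLocalRing (O₁ ⊗[O] A) :=
    IsLocalRing.of_surjective' (Algebra.TensorProduct.includeRight (R := O) (A := O₁) (B := A)).toRingHom hS
  have hinj : Function.Injective π := by
    letI := π.toRingHom.toAlgebra
    haveI : Module.Flat (O₁ ⊗[O] A) A' := RingHom.flat_algebraMap_iff.1
      (hflat π.toRingHom (RingHom.ext hl) (RingHom.ext hr))
    haveI : IsLocalHom (algebraMap (O₁ ⊗[O] A) A') := IsLocalHom.of_surjective _ hs
    haveI : Module.FaithfullyFlat (O₁ ⊗[O] A) A' := Module.FaithfullyFlat.of_flat_of_isLocalHom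
    exact FaithfulSMul.algebraMap_injective (O₁ ⊗[O] A) A'
  exact ⟨IsBaseChange.of_equiv (LinearEquiv.ofBijective π.toLinearMap ⟨hinj, hs⟩) hr⟩

/-- tor amplitude over the base descends along a nilpotent thickening -/
theorem torAmp_of_thickening (τ : O →+* A) (σ : O →+* O₁) (ψ : A →+* A') (ρ : O₁ →+* A')
    (hc : ψ.comp τ = ρ.comp σ) [IsLocalRing A] [IsLocalRing A']
    (hσ : Function.Surjective σ) (hn : IsNilpotent (RingHom.ker σ)) (hψ : Function.Surjective ψ)
    (hflat : letI := σ.toAlgebra; letI := τ.toAlgebra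
      ∀ π : (O₁ ⊗[O] A) →+* A', π.comp Algebra.TensorProduct.includeLeftRingHom = ρ →
        π.comp (Algebra.TensorProduct.includeRight (R := O) (A := O₁) (B := A)).toRingHom = ψ → π.Flat)
    (hτ : τ.Flat) (K : DRing.Cx A) (hK : IsKFlatCx A K) {a b : ℤ}
    (h : DRing.HasTorAmplitudeIn O₁ a b (DRing.toD ((DRing.restrictCx ρ).obj (extCx ψ K)))) :
    DRing.HasTorAmplitudeIn O a b (DRing.toD ((DRing.restrictCx τ).obj K)) := by
  algebraize [σ, τ, ρ, ψ, ψ.comp τ]
  haveI : IsScalarTower O O₁ A' := .of_algebraMap_eq fun x => congr($hc x)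
  haveI := isPushout_of_surjective (O := O) hσ hψ hflat
  haveI := DAlg.hasLBaseChange σ
  obtain ⟨e⟩ := nonempty_lBaseChange_kFlat σ _ (isKFlatCx_restrict τ hτ K hK)
  exact (DAlg.torAmp_lBaseChange_iff hσ hn _ a b).1
    (DAlg.TorAmp.of_iso h ((DerivedCategory.Q.mapIso (DAlg.resExtCxIso K)).symm ≪≫ e.symm))

end Algebra

variable {X X' Y Y' : Scheme.{u}} {f : X ⟶ Y} {f' : X' ⟶ Y'} {i : X ⟶ X'} {j : Y ⟶ Y'}

/-- the stalk maps of a finite order thickening have nilpotent kernels -/
theorem isNilpotent_ker_stalkMap (j : Y ⟶ Y') [IsClosedImmersion j] (hn : IsNilpotent j.ker) (y : Y) :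
    IsNilpotent (RingHom.ker (j.stalkMap y).hom) := by
  obtain ⟨V, hV, hy, -⟩ := exists_isAffineOpen_mem_and_subset (U := (⊤ : Y'.Opens)) (x := j y) trivial
  obtain ⟨n, hn⟩ := hn
  refine ⟨n, ?_⟩
  rw [Groth.Ega4b.ker_stalkMap_eq_map j hV y hy, ← Ideal.map_pow]
  have : (j.ker.ideal ⟨V, hV⟩) ^ n = ⊥ := by
    have h := congrArg (fun I : Y'.IdealSheafData => I.ideal ⟨V, hV⟩) hn
    simpa using h
  rw [this, Ideal.map_bot]
  rfl

/-- stalkwise relative tor amplitude descends along a thickening -/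
theorem hasTorAmplitudeAt_of_thickening (sq : IsPullback i f f' j) [Flat f'] [IsClosedImmersion j]
    [IsClosedImmersion i] (hn : IsNilpotent j.ker) (P : CochainComplex X'.Modules ℤ)
    (hP : KFlat.IsKFlat (KFlat.T X') P) {a b : ℤ} (x : X)
    (h : DerSch.HasTorAmplitudeAt f a b ((pullCx i).obj P) x) :
    DerSch.HasTorAmplitudeAt f' a b P (i x) := by
  let τ := (baseStalkHom sq x).hom
  let C := (StalkAmp.stkCx (i x)).obj P
  have h₁ : DRing.HasTorAmplitudeIn (Y.presheaf.stalk (f x)) a b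
      (DRing.toD ((DRing.restrictCx (f.stalkMap x).hom).obj (extCx (i.stalkMap x).hom C))) :=
    StalkAmp.torAmp_of_iso (DerivedCategory.Q.mapIso
      (((Functor.mapHomologicalComplexCompIso (Iso.refl (stk x ⋙
        ModuleCat.restrictScalars (f.stalkMap x).hom)) up).symm.app _) ≪≫
        (DRing.restrictCx (f.stalkMap x).hom).mapIso (pullCxStkIso i x P))) h
  let e := Y'.presheaf.stalkCongr
    (.of_eq (by rw [← Scheme.Hom.comp_apply, ← sq.w, Scheme.Hom.comp_apply]) :
      Inseparable (j (f x)) (f' (i x)))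
  have hτ : τ.Flat :=
    RingHom.Flat.comp (RingHom.Flat.of_bijective (ConcreteCategory.bijective_of_isIso e.hom))
      (Flat.stalkMap f' (i x))
  have key := torAmp_of_thickening τ (j.stalkMap (f x)).hom (i.stalkMap x).hom (f.stalkMap x).hom
    (congrArg CommRingCat.Hom.hom (baseStalkHom_comm sq x)) (j.stalkMap_surjective (f x))
    (isNilpotent_ker_stalkMap j hn (f x)) (i.stalkMap_surjective x) (flat_stalk_tensor sq x) hτ C
    ((KFlat.isKFlat_iff_stalk P).1 ((KFlat.isKFlat_iff P).2 hP) (i x)) h₁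
  let := e.inv.hom.toAlgebra
  haveI : Module.Flat (Y'.presheaf.stalk (f' (i x))) (Y'.presheaf.stalk (j (f x))) :=
    RingHom.Flat.of_bijective (ConcreteCategory.bijective_of_isIso e.inv)
  have hB : DRing.HasTorAmplitudeIn (Y'.presheaf.stalk (f' (i x))) (-((0 : ℕ) : ℤ)) 0
      (DAlg.mD (ModuleCat.of (Y'.presheaf.stalk (f' (i x))) (Y'.presheaf.stalk (j (f x))))) := by
    simpa using DAlg.torAmp_mD_of_flat
      (ModuleCat.of (Y'.presheaf.stalk (f' (i x))) (Y'.presheaf.stalk (j (f x))))
  have h' := DAlg.TorAmp.restrict hB key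
  rw [Nat.cast_zero, sub_zero] at h'
  have he : τ.comp e.inv.hom = (f'.stalkMap (i x)).hom := by
    change (e.inv ≫ e.hom ≫ f'.stalkMap (i x)).hom = _
    rw [e.inv_hom_id_assoc]
  exact StalkAmp.torAmp_of_iso (DAlg.resQIso _ _ ≪≫ DerivedCategory.Q.mapIso
    ((Functor.mapHomologicalComplexCompIso
        (ModuleCat.restrictScalarsComp'.{u} e.inv.hom τ (f'.stalkMap (i x)).hom he.symm).symm up).app C ≪≫
      (Functor.mapHomologicalComplexCompIso (Iso.refl (stk (i x) ⋙
        ModuleCat.restrictScalars (f'.stalkMap (i x)).hom)) up).app P)) h'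

end Groth.DerivedCoh.RelAmp
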