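import Groth.Agent.DerivedCoh.RelAmp.Thick
import Groth.Agent.DerivedCoh.PCohDescent.Main

/-!
Pseudo-coherence ascends along finite order thickenings.
-/

set_option autoImplicit false
set_option backward.isDefEq.respectTransparency false
set_option linter.style.haveILetI false

universe u

open CategoryTheory CategoryTheory.Limits CategoryTheory.Pretriangulated AlgebraicGeometry
  HomologicalComplex TopologicalSpace
open Groth.KTheory.Perf (Rd Rc rdQIso exists_rep nonempty_hdRd)
open Groth.DerivedCoh.PCoh (Near Below)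
open Groth.QCohMod (res germ germ_res exists_germ pullGerm pullGerm_germ stalkAlg pullStalkEquiv pullStalkHom_tmul)
open Groth.PicAux (pullSec)
open scoped TensorProduct

attribute [local instance] HasDerivedCategory.standard

namespace Groth.DerivedCoh.RelAmp

open KFlat (stk pullCx)
open Groth.DAlg (extCx)

local notation "up" => ComplexShape.up ℤ

variable {X Y : Scheme.{u}}

/-- nilpotent Nakayama, without finiteness -/
theorem eq_top_of_le_sup_smul {A : Type u} [CommRing A] {M : Type u} [AddCommGroup M] [Module A M]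
    (I : Ideal A) (hI : IsNilpotent I) (N : Submodule A M) (h : (⊤ : Submodule A M) ≤ N ⊔ I • ⊤) :
    N = ⊤ := by
  obtain ⟨k, hk⟩ := hI
  have key : ∀ j : ℕ, (⊤ : Submodule A M) ≤ N ⊔ I ^ j • ⊤ := fun j => by
    induction j with
    | zero => rw [pow_zero, Ideal.one_eq_top, Submodule.top_smul]; exact le_sup_right
    | succ j ih =>
      calc (⊤ : Submodule A M) ≤ N ⊔ I • ⊤ := h
        _ ≤ N ⊔ I • (N ⊔ I ^ j • ⊤) := sup_le_sup_left (Submodule.smul_mono le_rfl ih) _
        _ ≤ N ⊔ I ^ (j + 1) • ⊤ := by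
          rw [Submodule.smul_sup, pow_succ', Submodule.mul_smul]
          exact sup_le le_sup_left (sup_le_sup_right Submodule.smul_le_right _)
  have := key k
  rw [hk, Submodule.zero_eq_bot, Submodule.bot_smul, sup_bot_eq] at this
  exact top_le_iff.1 this

/-- germs spanning after restriction to a thickening span -/
theorem span_eq_top_of_thickening (i : Y ⟶ X) [IsClosedImmersion i] (F : X.Modules) (y : Y)
    (hn : IsNilpotent (RingHom.ker (i.stalkMap y).hom))
    (S : Set (F.presheaf.stalk (i y)))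
    (hS : Submodule.span (Y.presheaf.stalk y) (pullGerm i F y '' S) = ⊤) :
    Submodule.span (X.presheaf.stalk (i y)) S = ⊤ := by
  letI := stalkAlg i y
  let N := Submodule.span (X.presheaf.stalk (i y)) S
  have hs : Function.Surjective (algebraMap (X.presheaf.stalk (i y)) (Y.presheaf.stalk y)) :=
    i.stalkMap_surjective y
  refine eq_top_of_le_sup_smul (RingHom.ker (algebraMap (X.presheaf.stalk (i y)) (Y.presheaf.stalk y))) hn N ?_
  intro m _
  have : Submodule.span (Y.presheaf.stalk y) (pullGerm i F y '' S) ≤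
      (LinearMap.range (N.subtype.baseChange (Y.presheaf.stalk y))).map
        (pullStalkEquiv i F y).toLinearMap := by
    rw [Submodule.span_le]
    rintro _ ⟨t, ht, rfl⟩
    refine ⟨1 ⊗ₜ t, ⟨1 ⊗ₜ ⟨t, Submodule.subset_span ht⟩, rfl⟩, ?_⟩
    show QCohMod.pullStalkHom i F y (1 ⊗ₜ t) = _
    rw [pullStalkHom_tmul, one_smul]
  obtain ⟨_, ⟨w, rfl⟩, hw⟩ := this (hS.ge (Submodule.mem_top (x := pullStalkEquiv i F y (1 ⊗ₜ m))))
  obtain ⟨n, rfl⟩ := TensorProduct.mk_surjective (X.presheaf.stalk (i y)) N (Y.presheaf.stalk y) hs w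
  have h0 : (1 : Y.presheaf.stalk y) ⊗ₜ[X.presheaf.stalk (i y)] (m - (n : F.presheaf.stalk (i y))) = 0 := by
    rw [TensorProduct.tmul_sub, sub_eq_zero]
    exact ((pullStalkEquiv i F y).injective hw).symm
  have h1 := DAlg.mem_ker_smul_top hs _ h0
  exact Submodule.mem_sup.2 ⟨n, n.2, _, h1, add_sub_cancel _ _⟩

/-- finite type descends along thickenings -/
theorem isFT_of_thickening (f : Y ⟶ X) [IsClosedImmersion f] [Surjective f]
    (hn : ∀ y, IsNilpotent (RingHom.ker (f.stalkMap y).hom))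
    (M : X.Modules) (h : CohB1.IsFT ((Scheme.Modules.pullback f).obj M)) : CohB1.IsFT M := by
  classical
  have hq : Topology.IsQuotientMap f.base :=
    f.isClosedMap.isQuotientMap f.continuous f.surjective
  refine DescentBase.FTOpen.isFT_of_local_span M fun x => ?_
  obtain ⟨y, rfl⟩ := f.surjective x
  obtain ⟨V, hV, ι, hι, v, hv⟩ := VectorBundles.RefHullStalk.exists_spans_of_isFT _ h y
  obtain ⟨T, hT⟩ := PCohDescent.exists_finset_pullGerm_span f M y _ (hv y hV)
  let K : Type u := {t // t ∈ T}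
  choose O hO m hm using fun t : K => exists_germ M (f y) t.1
  let U : X.Opens := Finset.univ.inf O
  have hU : f y ∈ U := by
    show f y ∈ ((Finset.univ.inf O : X.Opens) : Set X)
    rw [Opens.coe_finset_inf]
    simp only [Finset.inf_set_eq_iInter, Set.mem_iInter]
    exact fun k _ => hO k
  let s : K → Γ(M, U) := fun t => res M (Finset.inf_le (Finset.mem_univ t)) (m t)
  let W : Set X := {x | ∃ hx : x ∈ U,
    Submodule.span (X.presheaf.stalk x) (Set.range fun k => germ M x hx (s k)) = ⊤}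
  have hWy : f y ∈ W := by
    refine ⟨hU, span_eq_top_of_thickening f M y (hn y) _
      (eq_top_iff.2 (hT.ge.trans (Submodule.span_mono (Set.image_mono ?_))))⟩
    intro t ht
    exact ⟨⟨t, ht⟩, (germ_res M _ (f y) hU _).trans (hm ⟨t, ht⟩)⟩
  have hW : IsOpen W := by
    rw [← hq.isOpen_preimage, isOpen_iff_forall_mem_open]
    rintro z ⟨hz, hs⟩
    obtain ⟨V', hV', ι', hι', v', hv'⟩ := VectorBundles.RefHullStalk.exists_spans_of_isFT _ h z
    have hz' : z ∈ f ⁻¹ᵁ U := hz
    have ht : Submodule.span (Y.presheaf.stalk z) (Set.range fun k =>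
        germ ((Scheme.Modules.pullback f).obj M) z hz' (pullSec f M (s k))) = ⊤ := by
      refine eq_top_iff.2 ((DescentBase.FTOpen.span_pullGerm_eq_top f M z _ hs).ge.trans
        (Submodule.span_mono ?_))
      rintro _ ⟨_, ⟨k, rfl⟩, rfl⟩
      exact ⟨k, (pullGerm_germ f M z hz _).symm⟩
    obtain ⟨W', hW', hle, hspan⟩ :=
      DescentBase.LocGenFpqc.exists_nhd_span _ hV' hz' v' (fun k => pullSec f M (s k)) hv' ht
    refine ⟨W', fun w hw => ⟨hle hw, span_eq_top_of_thickening f M w (hn w) _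
      (eq_top_iff.2 ((hspan w hw).ge.trans (Submodule.span_mono ?_)))⟩, W'.2, hW'⟩
    rintro _ ⟨k, rfl⟩
    exact ⟨_, ⟨k, rfl⟩, (pullGerm_germ f M w _ _).trans (germ_res _ _ _ _ _).symm⟩
  let Wo : X.Opens := ⟨W, hW⟩
  have hWU : Wo ≤ U := fun x hx => hx.1
  refine ⟨Wo, hWy, K, inferInstance, fun k => res M hWU (s k), fun z hz => ?_⟩
  obtain ⟨hzU, hsp⟩ := id hz
  refine eq_top_iff.2 (hsp.ge.trans (Submodule.span_mono ?_))
  rintro _ ⟨k, rfl⟩
  exact ⟨k, germ_res M _ z hz _⟩

/-- nilpotency of stalk kernels restricts to opens -/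
theorem isNilpotent_ker_restrict (f : Y ⟶ X) (hn : ∀ y, IsNilpotent (RingHom.ker (f.stalkMap y).hom))
    (W : X.Opens) (y : (f ⁻¹ᵁ W : Y.Opens)) : IsNilpotent (RingHom.ker ((f ∣_ W).stalkMap y).hom) := by
  obtain ⟨k, hk⟩ := hn y.1
  refine ⟨k, ?_⟩
  have e := (morphismRestrictStalkMap f W y).hom.w
  have hle : (RingHom.ker ((f ∣_ W).stalkMap y).hom).map (morphismRestrictStalkMap f W y).hom.left.hom ≤
      RingHom.ker (f.stalkMap y.1).hom := Ideal.map_le_iff_le_comap.2 fun z hz => by
    have h1 := congr($(e).hom z)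
    rw [Ideal.mem_comap, RingHom.mem_ker]
    refine h1.trans ?_
    change (morphismRestrictStalkMap f W y).hom.right.hom (((f ∣_ W).stalkMap y).hom z) = 0
    rw [RingHom.mem_ker.1 hz, map_zero]
  rw [Submodule.zero_eq_bot, eq_bot_iff]
  intro z hz
  have h2 : (morphismRestrictStalkMap f W y).hom.left.hom z ∈ (RingHom.ker (f.stalkMap y.1).hom) ^ k :=
    Ideal.pow_right_mono hle k (by
      rw [← Ideal.map_pow]
      exact Ideal.mem_map_of_mem _ hz)
  rw [hk, Submodule.zero_eq_bot, Ideal.mem_bot] at h2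
  exact (Ideal.mem_bot).2 ((ConcreteCategory.bijective_of_isIso
    (morphismRestrictStalkMap f W y).hom.left).1 (h2.trans (map_zero _).symm))

/-- top cohomology commutes with inverse images -/
theorem nonempty_hdLpull_top (f : Y ⟶ X) [DCoh.HasLpull f] (E : DCoh.D X) {t : ℤ}
    (h0 : ∀ i, t < i → IsZero (DCoh.HD E i)) :
    Nonempty (DCoh.HD ((DCoh.Lpull f).obj E) t ≅ (Scheme.Modules.pullback f).obj (DCoh.HD E t)) ∧
      ∀ i, t < i → IsZero (DCoh.HD ((DCoh.Lpull f).obj E) i) := by
  obtain ⟨P, hP, -, hz, ⟨e⟩⟩ := PCoh.exists_flat_rep_of_below (m := t + 1) (C := E)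
    fun i hi => h0 i (by omega)
  have := (Scheme.Modules.pullbackPushforwardAdjunction f).leftAdjoint_preservesColimits
  let Q := (pullCx f).obj P
  let eL : (DCoh.Lpull f).obj E ≅ DCoh.toD Y Q :=
    (DCoh.Lpull f).mapIso e.symm ≪≫ KFlat.lpullQIso f P hP
  have hQ : ∀ i, t < i → IsZero (Q.X i) := fun i hi =>
    (Scheme.Modules.pullback f).map_isZero (hz i (by omega))
  refine ⟨?_, fun i hi => (KFlat.isZero_hd_of_iso eL ((KFlat.isZero_hd_toD_iff Q i).2
    (ExactAt.of_isZero (hQ i hi))))⟩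
  have hP1 := P.isIso_homologyι t (t + 1) (by simp) ((hz (t + 1) le_rfl).eq_of_tgt _ _)
  have hQ1 := Q.isIso_homologyι t (t + 1) (by simp) ((hQ (t + 1) (by omega)).eq_of_tgt _ _)
  exact ⟨(DerivedCategory.homologyFunctor _ t).mapIso eL ≪≫
    (DerivedCategory.homologyFunctorFactors Y.Modules t).app Q ≪≫ asIso (Q.homologyι t) ≪≫
    (Q.opcyclesIsCokernel (t - 1) t (by simp)).coconePointUniqueUpToIso
      (CokernelCofork.mapIsColimit _ (P.opcyclesIsCokernel (t - 1) t (by simp)) (Scheme.Modules.pullback f)) ≪≫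
    (Scheme.Modules.pullback f).mapIso ((asIso (P.homologyι t)).symm ≪≫
      ((DerivedCategory.homologyFunctorFactors X.Modules t).app P).symm ≪≫
      (DerivedCategory.homologyFunctor _ t).mapIso e)⟩

/-- ascent by induction on the top cohomology -/
theorem pcoh_thickening_aux (n : ℕ) : ∀ {X Y : Scheme.{u}} (f : Y ⟶ X) [IsClosedImmersion f] [Surjective f]
    [DCoh.HasLpull f], (∀ y, IsNilpotent (RingHom.ker (f.stalkMap y).hom)) → ∀ (E : DCoh.D X) (m : ℤ),
    DCoh.IsPseudoCoherentD m ((DCoh.Lpull f).obj E) →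
    (∀ i, m + n ≤ i → IsZero (DCoh.HD E i)) → DCoh.IsPseudoCoherentD m E := by
  induction n with
  | zero =>
    intro X Y f _ _ _ _ E m _ hE
    rw [PCoh.isPseudoCoherentD_iff]
    intro x
    let P : CochainComplex ((⊤ : X.Opens) : Scheme.{u}).Modules ℤ := HomologicalComplex.zero
    have hz : ∀ i, IsZero (P.X i) := fun i => isZero_zero _
    have hP : ∀ i, IsZero ((DerivedCategory.homologyFunctor _ i).obj (DCoh.toD _ P)) := fun i =>
      (ExactAt.of_isZero (hz i)).isZero_homology.of_iso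
        ((DerivedCategory.homologyFunctorFactors _ i).app P)
    have hK : ∀ i, m ≤ i → IsZero ((DerivedCategory.homologyFunctor _ i).obj
        ((Rd (⊤ : X.Opens).ι).obj E)) := fun i hi =>
      ((Scheme.Modules.restrictFunctor _).map_isZero (hE i (by simpa using hi))).of_iso
        (nonempty_hdRd _ E i).some
    refine ⟨⊤, trivial, P, 0, ⟨⟨0, 0, fun i _ => hz i⟩,
      fun i => Groth.KTheory.LocFree.isFinLocFree_zero (hz i)⟩,
      fun i hi => ⟨⟨0, (hP i).eq_of_src _ _, (hK i (by omega)).eq_of_src _ _⟩⟩,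
      ⟨fun g g' _ => (hK m le_rfl).eq_of_src _ _⟩⟩
  | succ n ih =>
    intro X Y f _ _ _ hn E m hL hb
    let t : ℤ := m + n
    have htop : ∀ i, t < i → IsZero (DCoh.HD E i) := fun i hi => hb i (by push_cast; omega)
    obtain ⟨⟨et⟩, htopL⟩ := nonempty_hdLpull_top f E htop
    have hft : CohB1.IsFT (DCoh.HD E t) := isFT_of_thickening f hn _
      (Groth.QCohMod.isFT_of_iso et
        (PCoh.isFT_top (PCohDescent.pcoh_mono hL (by omega : m ≤ t)) htopL))
    refine PCoh.isPseudoCoherentD_of_local fun x => ?_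
    obtain ⟨W, P, α, hx, hP, hα⟩ := PCohDescent.exists_near_free htop hft x
    refine ⟨W, hx, ?_⟩
    have := KFlat.hasLpull (f ∣_ W)
    have : Surjective (f ∣_ W) := IsZariskiLocalAtTarget.restrict ‹_› W
    have hnW := isNilpotent_ker_restrict f hn W
    obtain ⟨c⟩ := PCoh.nonempty_rd_Lpull f W E
    obtain ⟨C, v, w, hT⟩ := distinguished_cocone_triangle α
    have hC : Below t C := PCoh.below_of_near _ hT hα
    obtain ⟨S, hS, ⟨i₁⟩, ⟨i₂⟩, ⟨i₃⟩⟩ := KFlat.exists_triangle (Scheme.Modules.pullback (f ∣_ W))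
      (DCoh.Lpull (f ∣_ W)) (fun P hP => ⟨KFlat.lpullQIso _ P hP⟩) _ hT
    have hPp := Fibre.isPerfect_toD hP
    have h3 : DCoh.IsPseudoCoherentD m S.obj₃ := PCoh.isPseudoCoherentD_obj₃ S hS
      (PCoh.isPseudoCoherentD_of_iso i₁.symm
        (PCoh.isPseudoCoherentD_of_isPerfect (PCoh.isPerfect_Lpull _ hPp) _))
      (PCoh.isPseudoCoherentD_of_iso (c ≪≫ i₂.symm) (PCohDescent.pcoh_rd _ hL))
    exact PCoh.isPseudoCoherentD_obj₂ (Triangle.mk α v w) hT
      (PCoh.isPseudoCoherentD_of_isPerfect hPp m)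
      (ih (f ∣_ W) hnW C m (PCoh.isPseudoCoherentD_of_iso i₃ h3) fun i hi => hC i hi)

/-- pseudo-coherence ascends along thickenings -/
theorem pcoh_of_thickening (f : Y ⟶ X) [IsClosedImmersion f] [Surjective f] [DCoh.HasLpull f]
    (hn : ∀ y, IsNilpotent (RingHom.ker (f.stalkMap y).hom))
    (E : DCoh.D X) (m : ℤ) (h : DCoh.IsPseudoCoherentD m ((DCoh.Lpull f).obj E)) :
    DCoh.IsPseudoCoherentD m E := by
  obtain ⟨F, ⟨e⟩⟩ := exists_rep E
  let P := (KFlat.flatResolution X).obj F
  have hP := KFlat.flatResolution_isKFlat F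
  haveI := KFlat.flatResolution_quasiIso F
  let eP : DCoh.toD X P ≅ E := asIso (DerivedCategory.Q.map ((KFlat.flatResolutionAug X).app F)) ≪≫ e
  refine PCoh.isPseudoCoherentD_of_local fun x => ?_
  obtain ⟨y, rfl⟩ := f.surjective x
  obtain ⟨V, b, hy, hb⟩ := PCohDescent.exists_local_bound h y
  let W : X.Opens := ⟨f.base '' V, (f.isClosedMap.isQuotientMap f.continuous f.surjective).isOpen_preimage.1
    (by rw [Set.preimage_image_eq _ f.isClosedEmbedding.injective]; exact V.2)⟩
  refine ⟨W, ⟨y, hy, rfl⟩, ?_⟩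
  have := KFlat.hasLpull (f ∣_ W)
  have : Surjective (f ∣_ W) := IsZariskiLocalAtTarget.restrict ‹_› W
  have hz : ∀ i, max b m < i → IsZero (DCoh.HD ((Rd W.ι).obj E) i) := fun i hi => by
    refine IsZero.of_iso (Fibre.isZero_of_stk fun v => ?_) (nonempty_hdRd W.ι E i).some
    obtain ⟨z, hz, hzv⟩ := v.2
    have key : IsZero ((stk (f z)).obj (DCoh.HD E i)) := by
      let C := ((stk (f z)).mapHomologicalComplex up).obj P
      have hC := (KFlat.isKFlat_iff_stalk P).1 ((KFlat.isKFlat_iff P).2 hP) (f z)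
      letI := (f.stalkMap z).hom.toAlgebra
      haveI := DAlg.hasLBaseChange (algebraMap (X.presheaf.stalk (f z)) (Y.presheaf.stalk z))
      obtain ⟨eb⟩ := nonempty_lBaseChange_kFlat
        (algebraMap (X.presheaf.stalk (f z)) (Y.presheaf.stalk z)) C hC
      have h0 : ∀ j, max b m < j → IsZero ((extCx (f.stalkMap z).hom C).homology j) := fun j hj => by
        refine IsZero.of_iso ?_ ((homologyFunctor _ _ j).mapIso (pullCxStkIso f z P).symm ≪≫
          (((pullCx f).obj P).sc j).mapHomologyIso (stk z))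
        exact (hb j (by omega) z hz).of_iso ((stk z).mapIso
          (((DerivedCategory.homologyFunctorFactors _ j).app _).symm ≪≫
            (DerivedCategory.homologyFunctor _ j).mapIso
              ((KFlat.lpullQIso f P hP).symm ≪≫ (DCoh.Lpull f).mapIso eP)))
      have h1 := DAlg.subsingleton_HD_of_nilpotent (f.stalkMap_surjective z) (hn z) (DRing.toD C)
        (max b m) (fun j hj => haveI := DAlg.subsingleton_HD_toD (h0 j hj); (DAlg.HDCongr eb j).toEquiv.subsingleton) i hi
      refine IsZero.of_iso (DAlg.isZero_homology_of_subsingleton h1) ?_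
      exact (stk (f z)).mapIso ((DerivedCategory.homologyFunctor _ i).mapIso eP.symm ≪≫
        (DerivedCategory.homologyFunctorFactors _ i).app P) ≪≫ ((P.sc i).mapHomologyIso (stk (f z))).symm
    have h2 : Subsingleton ((Groth.QCohMod.stalk (W.ι v)).obj (DCoh.HD E i)) := by
      have hv : W.ι v = f z := hzv.symm
      rw [hv]
      exact ModuleCat.subsingleton_of_isZero key
    have : Subsingleton ((Groth.QCohMod.stalk v).obj ((DCoh.HD E i).restrict W.ι)) :=
      AddCommGrpCat.subsingleton_of_isZero ((AddCommGrpCat.isZero_of_subsingleton _).of_iso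
        ((Scheme.Modules.restrictStalkNatIso W.ι v).app (DCoh.HD E i)))
    exact ModuleCat.isZero_iff_subsingleton.2 this
  obtain ⟨c⟩ := PCoh.nonempty_rd_Lpull f W E
  refine pcoh_thickening_aux (max b m + 1 - m).toNat (f ∣_ W) ?_ _ m
    (PCoh.isPseudoCoherentD_of_iso c (PCohDescent.pcoh_rd _ h)) fun i hi => hz i (by omega)
  exact isNilpotent_ker_restrict f hn W

end Groth.DerivedCoh.RelAmp
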