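import Groth.Agent.DerivedCoh.RelAmp.FlatBC
import Groth.Agent.KTheory.BaseCmpKFlat
import Groth.Agent.DAlg.PCDescent

/-!
Relative tor amplitude and base change between tor independent schemes over a base.
-/

universe u

open CategoryTheory CategoryTheory.Limits AlgebraicGeometry HomologicalComplex
open scoped TensorProduct

attribute [local instance] HasDerivedCategory.standard
set_option linter.style.haveILetI false

namespace Groth.DerivedCoh.RelAmp

open KFlat (stk pullCx)
open Groth.DAlg (extCx)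
open Groth.DAlg.KFlatMod (IsKFlatCx isKFlatCx_iff)

local notation "up" => ComplexShape.up ℤ

section Algebra

variable {O A A' B O₁ : Type u} [CommRing O] [CommRing A] [CommRing A'] [CommRing B] [CommRing O₁]

/-- the extension of an acyclic K-flat complex is acyclic -/
theorem acyclic_extCx (σ : O →+* O₁) (C : DRing.Cx O) (hC : IsKFlatCx O C) (hac : C.Acyclic) :
    (extCx σ C).Acyclic := by
  intro i
  rw [← DAlg.exactAt_restrictCx_iff σ]
  refine ExactAt.of_iso ?_
    (((Functor.mapHomologicalComplexCompIso (DAlg.extResNatIso σ) up).app C).symm)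
  exact (DAlg.KFlatMod.acyclic_tot_of_acyclic_kFlat C (isKFlatCx_iff.1 hC) hac _ i).of_iso
    (KFlat.totSingleIso (DAlg.KFlatMod.T O) _ C)

/-- restriction along a flat map keeps K-flatness -/
theorem isKFlatCx_restrict (τ : O →+* A) (hτ : τ.Flat) (K : DRing.Cx A) (hK : IsKFlatCx A K) :
    IsKFlatCx O ((DRing.restrictCx τ).obj K) := by
  haveI : PreservesFiniteLimits (ModuleCat.extendScalars.{u, u, u} τ) :=
    ModuleCat.preservesFiniteLimits_extendScalars_of_flat hτ
  haveI : PreservesFiniteColimits (ModuleCat.extendScalars.{u, u, u} τ) :=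
    have := (ModuleCat.extendRestrictScalarsAdj.{u, u, u} τ).leftAdjoint_preservesColimits
    inferInstance
  rw [isKFlatCx_iff]
  intro W hW i
  refine ExactAt.of_iso ?_ (brT ((DRing.restrictCx τ).obj K) W)
  refine ExactAt.of_iso ?_ (DAlg.resTotIso τ K W)
  rw [DAlg.exactAt_restrictCx_iff]
  have hW' : (extCx τ W).Acyclic := fun j => (hW j).map (ModuleCat.extendScalars.{u, u, u} τ)
  exact DAlg.KFlatMod.acyclic_tot_left (isKFlatCx_iff.1 hK) hW' i

/-- extension of scalars to `A'` flat over `A ⊗_O O₁` of quasi-isomorphisms between complexes K-flat over `O` -/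
theorem quasiIso_ext_torIndep (τ : O →+* A) (σ : O →+* O₁) (ψ : A →+* A') (ρ : O₁ →+* A')
    (hc : ψ.comp τ = ρ.comp σ)
    (hflat : letI := σ.toAlgebra; letI := τ.toAlgebra
      ∀ π : (O₁ ⊗[O] A) →+* A', π.comp Algebra.TensorProduct.includeLeftRingHom = ρ →
        π.comp (Algebra.TensorProduct.includeRight (R := O) (A := O₁) (B := A)).toRingHom = ψ → π.Flat)
    {Q₁ Q₂ : DRing.Cx A} (h₁ : IsKFlatCx O ((DRing.restrictCx τ).obj Q₁))
    (h₂ : IsKFlatCx O ((DRing.restrictCx τ).obj Q₂)) (q : Q₁ ⟶ Q₂) [QuasiIso q] :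
    QuasiIso (((ModuleCat.extendScalars.{u, u, u} ψ).mapHomologicalComplex up).map q) := by
  algebraize [σ, τ, ρ, ψ, ψ.comp τ]
  letI : Algebra A (O₁ ⊗[O] A) := Algebra.TensorProduct.rightAlgebra
  haveI : IsScalarTower O O₁ A' := .of_algebraMap_eq fun x => congr($hc x)
  let π : O₁ ⊗[O] A →+* A' :=
    (Algebra.TensorProduct.lift (IsScalarTower.toAlgHom O O₁ A') (IsScalarTower.toAlgHom O A A')
      fun _ _ => .all _ _).toRingHom
  have hl : π.comp Algebra.TensorProduct.includeLeftRingHom = ρ := RingHom.ext fun x => by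
    change ρ x * ψ 1 = ρ x
    rw [map_one, mul_one]
  have hr : π.comp (Algebra.TensorProduct.includeRight (R := O) (A := O₁) (B := A)).toRingHom = ψ :=
    RingHom.ext fun x => by
      change ρ 1 * ψ x = ψ x
      rw [map_one, one_mul]
  haveI : PreservesFiniteLimits (ModuleCat.extendScalars.{u, u, u} π) :=
    ModuleCat.preservesFiniteLimits_extendScalars_of_flat (hflat π hl hr)
  haveI : PreservesFiniteColimits (ModuleCat.extendScalars.{u, u, u} π) :=
    have := (ModuleCat.extendRestrictScalarsAdj.{u, u, u} π).leftAdjoint_preservesColimits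
    inferInstance
  rw [Groth.FlatCxBase.quasiIso_iff_cone_acyclic]
  intro i
  refine HomologicalComplex.ExactAt.of_iso ?_
    (CochainComplex.mappingCone.mapHomologicalComplexIso q (ModuleCat.extendScalars.{u, u, u} ψ))
  let C := CochainComplex.mappingCone q
  have hC : IsKFlatCx O ((DRing.restrictCx τ).obj C) := isKFlatCx_iff.2
    (((DAlg.KFlatMod.two_of_three_cone _).1 (isKFlatCx_iff.1 h₁) (isKFlatCx_iff.1 h₂)).of_iso
      (CochainComplex.mappingCone.mapHomologicalComplexIso q (ModuleCat.restrictScalars.{u} τ)).symm)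
  have hCac : ((DRing.restrictCx τ).obj C).Acyclic := fun j =>
    (DAlg.exactAt_restrictCx_iff τ C j).2 ((Groth.FlatCxBase.quasiIso_iff_cone_acyclic q).1 inferInstance j)
  have h3 : (extCx (algebraMap A (O₁ ⊗[O] A)) C).Acyclic := fun j => by
    rw [← DAlg.exactAt_restrictCx_iff (algebraMap O₁ (O₁ ⊗[O] A))]
    exact (acyclic_extCx σ _ hC hCac j).of_iso (DAlg.resExtCxIso C)
  have h4 : (((ModuleCat.extendScalars.{u, u, u} π).mapHomologicalComplex up).obj
      (extCx (algebraMap A (O₁ ⊗[O] A)) C)).ExactAt i :=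
    (h3 i).map (ModuleCat.extendScalars.{u, u, u} π)
  exact h4.of_iso
    ((Functor.mapHomologicalComplexCompIso
      ((ModuleCat.extendScalarsComp (algebraMap A (O₁ ⊗[O] A)) π).symm ≪≫
        eqToIso (congrArg ModuleCat.extendScalars.{u, u, u} hr)) up).app C)

/-- tor amplitude of the extension of scalars, in the tor independent situation -/
theorem torAmp_extCx_torIndep (τ : O →+* A) (σ : O →+* O₁) (ψ : A →+* A') (ρ : O₁ →+* A')
    (hc : ψ.comp τ = ρ.comp σ)
    (hflat : letI := σ.toAlgebra; letI := τ.toAlgebra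
      ∀ π : (O₁ ⊗[O] A) →+* A', π.comp Algebra.TensorProduct.includeLeftRingHom = ρ →
        π.comp (Algebra.TensorProduct.includeRight (R := O) (A := O₁) (B := A)).toRingHom = ψ → π.Flat)
    (hτ : τ.Flat) (K : DRing.Cx A) (hK : IsKFlatCx O ((DRing.restrictCx τ).obj K)) {a b : ℤ}
    (h : DRing.HasTorAmplitudeIn A a b (DRing.toD K)) :
    DRing.HasTorAmplitudeIn A' a b (DRing.toD (extCx ψ K)) := by
  let π := (DAlg.KFlatMod.resAug A).app K
  let R := (DAlg.KFlatMod.resFunctor A).obj K
  haveI : QuasiIso π := DAlg.KFlatMod.resAug_quasiIso K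
  have hR : IsKFlatCx A R := DAlg.KFlatMod.res_isKFlat K
  have hπ := quasiIso_ext_torIndep τ σ ψ ρ hc hflat (isKFlatCx_restrict τ hτ R hR) hK π
  haveI := DAlg.hasLBaseChange ψ
  obtain ⟨e⟩ : Nonempty ((DRing.LBaseChange ψ).obj (DRing.toD R) ≅ DRing.toD (extCx ψ R)) := by
    obtain ⟨P, p, hP, hp, -, -⟩ := DAlg.exists_kProjective_resolution R
    haveI := hP
    haveI := hp
    have hq := (DerivedCategory.isIso_Q_map_iff_quasiIso (φ := _)).2
      (Groth.BaseCmpKFlat.quasiIso_extCx_of_kFlat ψ (DAlg.isKFlatCx_of_isKProjective P) hR p)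
    exact ⟨(DRing.LBaseChange ψ).mapIso (asIso (DerivedCategory.Q.map p)).symm ≪≫ DAlg.lBaseChangeIso ψ P ≪≫
      @asIso _ _ _ _ (DerivedCategory.Q.map
        (((ModuleCat.extendScalars ψ).mapHomologicalComplex up).map p)) hq⟩
  exact StalkAmp.torAmp_of_iso ((DRing.LBaseChange ψ).mapIso (asIso (DerivedCategory.Q.map π)).symm ≪≫ e ≪≫
      @asIso _ _ _ _ (DerivedCategory.Q.map _) ((DerivedCategory.isIso_Q_map_iff_quasiIso _ _).2 hπ))
    (DAlg.TorAmp.baseChange ψ h)

end Algebra

lemma stalkMap_stalkCongr {X Y : Scheme.{u}} (q : X ⟶ Y) {y y' : X} (e : y = y') :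
    q.stalkMap y ≫ (X.presheaf.stalkCongr (.of_eq e)).hom =
      (Y.presheaf.stalkCongr (.of_eq (congrArg q e))).hom ≫ q.stalkMap y' := by
  subst e
  simp

variable {S T X Y X' Y' : Scheme.{u}} {f : X ⟶ Y} {g : X' ⟶ X} {h : Y' ⟶ Y} {f' : X' ⟶ Y'}

/-- the tor amplitude along a base change from a scheme tor independent of source and target -/
theorem hasTorAmplitude_pullCx_torIndep (H : IsPullback g f' f h) (q : Y ⟶ S) (r : T ⟶ S) (h' : Y' ⟶ T)
    (H₂ : IsPullback h h' q r) [Flat q] [Flat (f ≫ q)] (P : CochainComplex X.Modules ℤ)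
    (hP : KFlat.IsKFlat (KFlat.T X) P) {a b : ℤ} (hP' : DerSch.HasTorAmplitude f a b P) :
    DerSch.HasTorAmplitude f' a b ((pullCx g).obj P) := by
  refine hasTorAmplitude_pullCx_of_ext H P fun x' => ?_
  let z := f' x'
  have hτ : (baseStalkHom H₂ z).hom.Flat :=
    RingHom.Flat.comp (RingHom.Flat.of_bijective (ConcreteCategory.bijective_of_isIso _))
      (Flat.stalkMap q (h z))
  have hφτ : ((baseStalkHom H x').hom.comp (baseStalkHom H₂ z).hom).Flat := by
    have e : baseStalkHom H₂ z ≫ baseStalkHom H x' =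
        (S.presheaf.stalkCongr (.of_eq (show r (h' z) = (f ≫ q) (g x') by
          rw [← Scheme.Hom.comp_apply, ← Scheme.Hom.comp_apply, ← H₂.w, ← Category.assoc, ← H.w]
          rfl))).hom ≫ (f ≫ q).stalkMap (g x') := by
      have e' : h z = f (g x') := by
        rw [← Scheme.Hom.comp_apply, ← Scheme.Hom.comp_apply, ← H.w]
      rw [Scheme.Hom.stalkMap_comp]
      change (_ ≫ q.stalkMap (h z)) ≫ (Y.presheaf.stalkCongr (.of_eq e')).hom ≫ f.stalkMap (g x') = _
      rw [Category.assoc, ← Category.assoc (q.stalkMap (h z)), stalkMap_stalkCongr q e']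
      simp
    rw [← CommRingCat.hom_comp, e, CommRingCat.hom_comp]
    exact RingHom.Flat.comp (RingHom.Flat.of_bijective (ConcreteCategory.bijective_of_isIso _))
      (Flat.stalkMap (f ≫ q) (g x'))
  refine torAmp_extCx_torIndep (baseStalkHom H₂ z).hom (r.stalkMap (h' z)).hom (h.stalkMap z).hom
    (h'.stalkMap z).hom (congrArg CommRingCat.Hom.hom (baseStalkHom_comm H₂ z)) (flat_stalk_tensor H₂ z) hτ _ ?_
    (torAmp_baseStalk H P hP' x')
  exact isKFlatCx_iff.2 ((isKFlatCx_iff.1 (isKFlatCx_restrict _ hφτ _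
      ((KFlat.isKFlat_iff_stalk P).1 ((KFlat.isKFlat_iff P).2 hP) (g x')))).of_iso
    ((Functor.mapHomologicalComplexCompIso
      (ModuleCat.restrictScalarsComp'.{u} (baseStalkHom H₂ z).hom (baseStalkHom H x').hom
        ((baseStalkHom H x').hom.comp (baseStalkHom H₂ z).hom) rfl).symm up).app _).symm)

end Groth.DerivedCoh.RelAmp
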